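import Cfsg.Agent.Lib.AfterFT.PairClosed.Pair

/-!
Balance criteria: an element of `O(C(a)) ∩ C(b)` lies in `O(C(b))` once it centralises, modulo `O(C(b))`,
the involutions of both kinds in `C(b)`.
-/

set_option autoImplicit false
set_option linter.unusedSectionVars false
set_option linter.style.haveILetI false

namespace CfsgLib.AfterFT.PairClosed

open Cfsg

universe u
variable {G : Type u} [Group G] [Finite G]

theorem mem_normalizer_inf {g : G} {A B : Subgroup G} (hA : g ∈ Subgroup.normalizer (A : Set G))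
    (hB : g ∈ Subgroup.normalizer (B : Set G)) : g ∈ Subgroup.normalizer ((A ⊓ B : Subgroup G) : Set G) :=
  Subgroup.mem_normalizer_iff.mpr fun z => by
    rw [Subgroup.mem_inf, Subgroup.mem_inf, Subgroup.mem_normalizer_iff.mp hA z,
      Subgroup.mem_normalizer_iff.mp hB z]

theorem mem_normalizer_sup {g : G} {A B : Subgroup G} (hA : g ∈ Subgroup.normalizer (A : Set G))
    (hB : g ∈ Subgroup.normalizer (B : Set G)) : g ∈ Subgroup.normalizer ((A ⊔ B : Subgroup G) : Set G) := by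
  rw [Subgroup.mem_normalizer_iff_map_conj_eq] at hA hB ⊢
  rw [Subgroup.map_sup, hA, hB]

theorem mem_normalizer_cent {g b : G} (h : Commute g b) :
    g ∈ Subgroup.normalizer (Subgroup.centralizer ({b} : Set G) : Set G) :=
  Subgroup.le_normalizer (mem_cent.mpr h)

/-- `(O(C(a)) ∩ C(b)) O(C(b))`. -/
def M (a b : G) : Subgroup G := (R a ⊓ Subgroup.centralizer {b}) ⊔ R b

theorem M_le (a b : G) : M a b ≤ Subgroup.centralizer {b} := sup_le inf_le_right (oddOf_le _)

theorem odd_M (a b : G) : Odd (Nat.card (M a b)) := by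
  refine odd_sup (fun g hg => cent_le_normalizer_R (mem_cent.mp hg.2)) ?_ (odd_oddOf _)
  exact (odd_oddOf _).of_dvd_nat (Subgroup.card_dvd_of_le inf_le_left)

theorem mem_normalizer_M {a b g : G} (ha : Commute g a) (hb : Commute g b) :
    g ∈ Subgroup.normalizer (M a b : Set G) :=
  mem_normalizer_sup (mem_normalizer_inf (cent_le_normalizer_R ha) (mem_normalizer_cent hb))
    (cent_le_normalizer_R hb)

theorem R_le_normalizer_M (a b : G) : R b ≤ Subgroup.normalizer (M a b : Set G) :=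
  le_sup_right.trans Subgroup.le_normalizer

namespace Setting

variable (s : Setting G)

/-- The involutions of the first kind in `C(b)`. -/
def T₁ (b : G) : Set G := {z | z ∈ s.D.I₁ ∧ Commute z b}

/-- The involutions of the second kind in `C(b)`. -/
def T₂ (b : G) : Set G := {z | z ∈ s.D.I₂ ∧ Commute z b}

/-- The centraliser modulo `O(C(b))` of the involutions of the first kind in `C(b)`. -/
def K₁ (b : G) : Subgroup G := modCent b (s.T₁ b) fun _ h => h.2

/-- The centraliser modulo `O(C(b))` of the involutions of the second kind in `C(b)`. -/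
def K₂ (b : G) : Subgroup G := modCent b (s.T₂ b) fun _ h => h.2

theorem swap_K₁ (b : G) : s.swap.K₁ b = s.K₂ b := rfl

theorem swap_K₂ (b : G) : s.swap.K₂ b = s.K₁ b := rfl

theorem conj_mem_T₁ {b g z : G} (hg : Commute g b) (hz : z ∈ s.T₁ b) : g * z * g⁻¹ ∈ s.T₁ b :=
  ⟨Pair.conj_mem_I₁ hz.1 g, (hg.mul_left hz.2).mul_left hg.inv_left⟩

theorem conj_mem_T₂ {b g z : G} (hg : Commute g b) (hz : z ∈ s.T₂ b) : g * z * g⁻¹ ∈ s.T₂ b :=
  s.swap.conj_mem_T₁ hg hz

theorem K₁_normalized {b c : G} (hc : Commute c b) :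
    ∀ g ∈ s.K₁ b, c * g * c⁻¹ ∈ s.K₁ b := fun g hg =>
  ⟨(hc.mul_left hg.1).mul_left hc.inv_left, fun z hz => by
    have hz' := s.conj_mem_T₁ hc.inv_left hz
    rw [inv_inv] at hz'
    have h := (Subgroup.mem_normalizer_iff.mp (cent_le_normalizer_R hc) _).mp (hg.2 _ hz')
    convert h using 1
    group⟩

theorem K₂_normalized {b c : G} (hc : Commute c b) :
    ∀ g ∈ s.K₂ b, c * g * c⁻¹ ∈ s.K₂ b := s.swap.K₁_normalized hc

/-- An element of `O(C(a))`, `a` equal to `v` or `v b` for an involution `v` of the first kind, centralises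
the involutions of the second kind of `C(b)` modulo `O(C(b))`. -/
theorem mem_K₂_of_R {b v a x : G} (hb : Subgroup.centralizer ({b} : Set G) ≠ ⊤) (hv : v ∈ s.T₁ b)
    (ha : a = v ∨ a = v * b) (hx : x ∈ R a) (hxb : Commute x b) : x ∈ s.K₂ b := by
  refine ⟨hxb, fun z hz => ?_⟩
  -- every involution of the second kind in `C(b)` normalises `M a b`
  have hnorm : ∀ y ∈ s.T₂ b, y ∈ Subgroup.normalizer (M a b : Set G) := by
    intro y hy
    obtain ⟨y', r, -, hy'v, hr, hyr, -, -, -⟩ := s.swap.exists_commuting (z := y) (w := v) hy.1 hv.1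
    have hR : (y * v) * (y * v) ∈ R b := by
      have h := (oddOf _).inv_mem
        (ind_mem s.D s.ind hb hv.1.1 (mem_cent.mpr hv.2) hy.1.1 (mem_cent.mpr hy.2))
      rwa [show (v * y * v⁻¹ * y⁻¹)⁻¹ = y * v * y⁻¹ * v⁻¹ by group,
        inv_eq_of_mul_eq_one_right hy.1.2, inv_eq_of_mul_eq_one_right hv.1.2, mul_assoc (y * v) y v] at h
    have hrb : r ∈ R b := Subgroup.zpowers_le.mpr hR hr
    have hy'b : Commute y' b := by
      have e : y' = r⁻¹ * y * r := by rw [hyr]; group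
      rw [e]
      exact ((R_comm hrb).inv_left.mul_left hy.2).mul_left (R_comm hrb)
    have hy'a : Commute y' a := by
      rcases ha with rfl | rfl
      · exact hy'v
      · exact hy'v.mul_right hy'b
    have hrN := R_le_normalizer_M a b hrb
    rw [hyr]
    exact mul_mem (mul_mem hrN (mem_normalizer_M hy'a hy'b)) (inv_mem hrN)
  let L : Subgroup G := Subgroup.closure (s.T₂ b) ⊔ R b
  have hLC : L ≤ Subgroup.centralizer {b} :=
    sup_le ((Subgroup.closure_le _).mpr fun y hy => mem_cent.mpr hy.2) (oddOf_le _)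
  have hLN : L ≤ Subgroup.normalizer (M a b : Set G) :=
    sup_le ((Subgroup.closure_le _).mpr hnorm) (R_le_normalizer_M a b)
  have hCL : Subgroup.centralizer ({b} : Set G) ≤ Subgroup.normalizer (L : Set G) := by
    intro c hc
    refine mem_normalizer_sup ?_ (le_normalizer_oddOf _ hc)
    rw [Subgroup.mem_normalizer_iff_map_conj_eq, MonoidHom.map_closure]
    congr 1
    ext y
    constructor
    · rintro ⟨y', hy', rfl⟩
      exact s.conj_mem_T₂ (mem_cent.mp hc) hy'
    · intro hy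
      exact ⟨c⁻¹ * y * c, by simpa using s.conj_mem_T₂ (mem_cent.mp hc).inv_left hy,
        by show c * (c⁻¹ * y * c) * c⁻¹ = y; group⟩
  have h1 : L ⊓ M a b ≤ oddOf L := le_oddOf inf_le_left
    (fun l hl => mem_normalizer_inf (Subgroup.le_normalizer hl) (hLN hl))
    ((odd_M a b).of_dvd_nat (Subgroup.card_dvd_of_le inf_le_right))
  refine oddOf_mono_normal hLC hCL (h1 ⟨?_, ?_⟩)
  · have h1 : x * z * x⁻¹ ∈ L := Subgroup.mem_sup_left (Subgroup.subset_closure (s.conj_mem_T₂ hxb hz))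
    exact L.mul_mem h1 (L.inv_mem (Subgroup.mem_sup_left (Subgroup.subset_closure hz)))
  · have hxM : x ∈ M a b := Subgroup.mem_sup_left ⟨hx, mem_cent.mpr hxb⟩
    have := (M a b).mul_mem hxM ((Subgroup.mem_normalizer_iff.mp (hnorm z hz) x⁻¹).mp ((M a b).inv_mem hxM))
    simpa [mul_assoc] using this

theorem mem_K₁_of_R {b w a x : G} (hb : Subgroup.centralizer ({b} : Set G) ≠ ⊤) (hw : w ∈ s.T₂ b)
    (ha : a = w ∨ a = w * b) (hx : x ∈ R a) (hxb : Commute x b) : x ∈ s.K₁ b :=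
  s.swap.mem_K₂_of_R hb hw ha hx hxb

/-- An element inverted by an involution of the second kind centralises those of the first kind. -/
theorem mem_K₁_of_inv {b t x : G} (hb : Subgroup.centralizer ({b} : Set G) ≠ ⊤) (ht : t ∈ s.T₂ b)
    (hxb : Commute x b) (ho : Odd (orderOf x)) (hinv : t * x * t⁻¹ = x⁻¹) : x ∈ s.K₁ b := by
  have h0 : ∀ z ∈ s.T₁ b, t * z * t⁻¹ * z⁻¹ ∈ R b := fun z hz => by
    have h := (oddOf _).inv_mem (ind_mem s.D s.ind hb hz.1.1 (mem_cent.mpr hz.2) ht.1.1 (mem_cent.mpr ht.2))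
    rwa [show (z * t * z⁻¹ * t⁻¹)⁻¹ = t * z * t⁻¹ * z⁻¹ by group] at h
  refine mem_of_sq_mem ho ⟨hxb.mul_left hxb, fun z hz => ?_⟩
  have hN := cent_le_normalizer_R hxb
  have he := (Subgroup.mem_normalizer_iff''.mp hN _).mp (h0 z hz)
  have h1 := h0 _ (s.conj_mem_T₁ hxb hz)
  have e : t * (x * z * x⁻¹) * t⁻¹ = x⁻¹ * (t * z * t⁻¹) * x := by
    calc t * (x * z * x⁻¹) * t⁻¹ = (t * x * t⁻¹) * (t * z * t⁻¹) * (t * x * t⁻¹)⁻¹ := by group
      _ = _ := by rw [hinv, inv_inv]
  rw [e] at h1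
  have h2 := (R b).mul_mem ((R b).inv_mem he) h1
  have h3 := (R b).inv_mem ((Subgroup.mem_normalizer_iff.mp hN _).mp h2)
  convert h3 using 1
  simp [mul_assoc]

theorem mem_K₂_of_inv {b v x : G} (hb : Subgroup.centralizer ({b} : Set G) ≠ ⊤) (hv : v ∈ s.T₁ b)
    (hxb : Commute x b) (ho : Odd (orderOf x)) (hinv : v * x * v⁻¹ = x⁻¹) : x ∈ s.K₂ b :=
  s.swap.mem_K₁_of_inv hb hv hxb ho hinv

/-- **The balance criterion.** -/
theorem mem_R_of_K {a b v w x : G} (hv : v ∈ s.T₁ b) (hw : w ∈ s.T₂ b) (hvw : Commute v w) (ha : a = v * w)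
    (hx : x ∈ R a) (h₁ : x ∈ s.K₁ b) (h₂ : x ∈ s.K₂ b) : x ∈ R b := by
  set Y : Subgroup G := s.K₁ b ⊓ s.K₂ b with hY
  have hYC : Y ≤ Subgroup.centralizer {b} := fun g hg => mem_cent.mpr hg.1.1
  have hYN : Subgroup.centralizer ({b} : Set G) ≤ Subgroup.normalizer (Y : Set G) := by
    intro c hc
    have hc' := mem_cent.mp hc
    refine Subgroup.mem_normalizer_iff.mpr fun g => ⟨fun hg => ⟨s.K₁_normalized hc' g hg.1, s.K₂_normalized hc' g hg.2⟩,
      fun hg => ⟨?_, ?_⟩⟩
    · simpa [mul_assoc] using s.K₁_normalized hc'.inv_left _ hg.1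
    · simpa [mul_assoc] using s.K₂_normalized hc'.inv_left _ hg.2
  have haa : a * a = 1 := by
    rw [ha, mul_assoc, ← mul_assoc w v w, ← hvw.eq, mul_assoc v w w, hw.1.2, mul_one, hv.1.2]
  have hYM : Y ≤ Subgroup.normalizer (M a b : Set G) := by
    intro g hg
    obtain ⟨ρ, hρ, hρa, hρb⟩ := lift_cent haa hg.1.1 (a := a) (by
      have h1 := hg.1.2 v hv
      have h2 := (Subgroup.mem_normalizer_iff.mp (cent_le_normalizer_R hv.2) _).mp (hg.2.2 w hw)
      have h3 := (R b).mul_mem h1 h2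
      rw [ha]
      convert h3 using 1
      group)
    have : g = ρ⁻¹ * (ρ * g) := by group
    rw [this]
    exact mul_mem (inv_mem (R_le_normalizer_M a b hρ)) (mem_normalizer_M hρa hρb)
  have h1 : Y ⊓ M a b ≤ oddOf Y := le_oddOf inf_le_left
    (fun g hg => mem_normalizer_inf (Subgroup.le_normalizer hg) (hYM hg))
    ((odd_M a b).of_dvd_nat (Subgroup.card_dvd_of_le inf_le_right))
  exact oddOf_mono_normal hYC hYN (h1 ⟨⟨h₁, h₂⟩, Subgroup.mem_sup_left ⟨hx, mem_cent.mpr h₁.1⟩⟩)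

/-- An element of `O(C(v)) ∩ O(C(w))` lies in `O(C(b))` for every `b` centralising it. -/
theorem mem_R_of_both {b v w x : G} (hb : Subgroup.centralizer ({b} : Set G) ≠ ⊤) (hv : v ∈ s.T₁ b)
    (hw : w ∈ s.T₂ b) (hxv : x ∈ R v) (hxw : x ∈ R w) (hxb : Commute x b) : x ∈ R b :=
  s.mem_R_of_K hv (w := 1) ⟨Pair.one_mem_I₁ (D := s.D.swap), Commute.one_left b⟩ (Commute.one_right v)
    (mul_one v).symm hxv (s.mem_K₁_of_R hb hw (Or.inl rfl) hxw hxb) (s.mem_K₂_of_R hb hv (Or.inl rfl) hxv hxb)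

end Setting

end CfsgLib.AfterFT.PairClosed
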