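import Mathlib.GroupTheory.Sylow
import Cfsg.Prelude.Def_CaseTheorems
import Cfsg.Agent.Lib.Basic
import Cfsg.Agent.Lib.Involutions

/-!
Cores `O(H)` of subgroups, seen inside the ambient group, and the subgroups that centralise a set modulo `O(C(b))`.
-/

set_option autoImplicit false
set_option linter.unusedSectionVars false
set_option linter.style.haveILetI false

namespace CfsgLib.AfterFT.PairClosed

open Cfsg
open scoped commutatorElement

universe u
variable {G : Type u} [Group G]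

/-- `O(H)` as a subgroup of the ambient group. -/
def oddOf (H : Subgroup G) : Subgroup G := (oddCore ↥H).map H.subtype

/-- `O(C(a))`. -/
abbrev R (a : G) : Subgroup G := oddOf (Subgroup.centralizer {a})

theorem mem_cent {a x : G} : x ∈ Subgroup.centralizer ({a} : Set G) ↔ Commute x a :=
  Subgroup.mem_centralizer_singleton_iff

theorem oddOf_le (H : Subgroup G) : oddOf H ≤ H := Subgroup.map_subtype_le _

theorem le_normalizer_oddOf (H : Subgroup G) : H ≤ Subgroup.normalizer (oddOf H : Set G) := by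
  intro h hh
  have : (oddCore ↥H).Normal := inferInstance
  rw [Subgroup.mem_normalizer_iff]
  refine fun n => ⟨?_, ?_⟩
  · rintro ⟨x, hx, rfl⟩
    exact ⟨⟨h, hh⟩ * x * ⟨h, hh⟩⁻¹, this.conj_mem x hx _, rfl⟩
  · rintro ⟨x, hx, e⟩
    refine ⟨⟨h, hh⟩⁻¹ * x * ⟨h, hh⟩, by simpa using this.conj_mem x hx ⟨h, hh⟩⁻¹, ?_⟩
    have e' : (x : G) = h * n * h⁻¹ := e
    simp [e', mul_assoc]

theorem R_comm {a x : G} (hx : x ∈ R a) : Commute x a := mem_cent.mp (oddOf_le _ hx)

theorem cent_le_normalizer_R {a g : G} (hg : Commute g a) : g ∈ Subgroup.normalizer (R a : Set G) :=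
  le_normalizer_oddOf _ (mem_cent.mpr hg)

section Finite

variable [Finite G]

theorem odd_oddOf (H : Subgroup G) : Odd (Nat.card (oddOf H)) := by
  rw [oddOf, Subgroup.card_map_of_injective H.subtype_injective]
  exact odd_card_oddCore

theorem le_oddOf {H N : Subgroup G} (hN : N ≤ H) (hHN : H ≤ Subgroup.normalizer (N : Set G))
    (ho : Odd (Nat.card N)) : N ≤ oddOf H := by
  haveI : (N.subgroupOf H).Normal := (Subgroup.normal_subgroupOf_iff_le_normalizer hN).mpr hHN
  have h1 : N.subgroupOf H ≤ oddCore ↥H :=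
    le_oddCore (by rwa [Nat.card_congr (Subgroup.subgroupOfEquivOfLe hN).toEquiv])
  calc N = (N.subgroupOf H).map H.subtype := (Subgroup.map_subgroupOf_eq_of_le hN).symm
    _ ≤ _ := Subgroup.map_mono h1

theorem oddOf_mono_normal {H K : Subgroup G} (hKH : K ≤ H) (hHK : H ≤ Subgroup.normalizer (K : Set G)) :
    oddOf K ≤ oddOf H := by
  refine le_oddOf ((oddOf_le K).trans hKH) ?_ (odd_oddOf K)
  intro h hh
  haveI : (K.subgroupOf H).Normal := (Subgroup.normal_subgroupOf_iff_le_normalizer hKH).mpr hHK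
  -- the automorphism of `K` induced by `h`
  let φ : K ≃* K :=
    { toFun := fun k => ⟨h * k * h⁻¹, (Subgroup.mem_normalizer_iff.mp (hHK hh) k).mp k.2⟩
      invFun := fun k => ⟨h⁻¹ * k * h, (Subgroup.mem_normalizer_iff''.mp (hHK hh) k).mp k.2⟩
      left_inv := fun k => Subtype.ext (by simp [mul_assoc])
      right_inv := fun k => Subtype.ext (by simp [mul_assoc])
      map_mul' := fun a b => Subtype.ext (by simp [mul_assoc]) }
  have hφ : (oddCore ↥K).map φ.toMonoidHom = oddCore ↥K := pPrimeCore_map_equiv 2 φ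
  refine Subgroup.mem_normalizer_iff_map_conj_eq.mpr ?_
  rw [oddOf, Subgroup.map_map, show ((MulAut.conj h : G ≃* G) : G →* G).comp K.subtype = K.subtype.comp φ.toMonoidHom
    from rfl, ← Subgroup.map_map, hφ]

theorem odd_orderOf_of_mem {N : Subgroup G} (ho : Odd (Nat.card N)) {x : G} (hx : x ∈ N) :
    Odd (orderOf x) := by
  have h : orderOf (⟨x, hx⟩ : N) ∣ Nat.card N := orderOf_dvd_natCard _
  rw [Subgroup.orderOf_mk] at h
  exact ho.of_dvd_nat h

theorem odd_sup {A B : Subgroup G} (hAB : A ≤ Subgroup.normalizer (B : Set G)) (hA : Odd (Nat.card A))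
    (hB : Odd (Nat.card B)) : Odd (Nat.card (A ⊔ B : Subgroup G)) := by
  haveI : (B.subgroupOf (A ⊔ B)).Normal :=
    (Subgroup.normal_subgroupOf_iff_le_normalizer le_sup_right).mpr (sup_le hAB Subgroup.le_normalizer)
  have h := card_sup_dvd_mul (A.subgroupOf (A ⊔ B)) (B.subgroupOf (A ⊔ B))
  rw [← Subgroup.subgroupOf_sup le_sup_left le_sup_right, Subgroup.subgroupOf_self, Subgroup.card_top,
    Nat.card_congr (Subgroup.subgroupOfEquivOfLe (le_sup_left : A ≤ A ⊔ B)).toEquiv,
    Nat.card_congr (Subgroup.subgroupOfEquivOfLe (le_sup_right : B ≤ A ⊔ B)).toEquiv] at h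
  exact (hA.mul hB).of_dvd_nat h

/-- An element of odd order is a power of its square. -/
theorem mem_of_sq_mem {K : Subgroup G} {x : G} (ho : Odd (orderOf x)) (h : x * x ∈ K) : x ∈ K := by
  obtain ⟨m, hm⟩ := Involutions.exists_sqrt ho
  rw [← hm, ← pow_add, ← two_mul, pow_mul, pow_two]
  exact K.pow_mem h m

/-- Inverted and centralised by the same element, of odd order: trivial. -/
theorem eq_one_of_inverted {x : G} (ho : Odd (orderOf x)) {t : G} (h1 : t * x * t⁻¹ = x⁻¹) (h2 : Commute x t) :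
    x = 1 := by
  have h3 : x * x = 1 := by
    have : t * x * t⁻¹ = x := by rw [h2.eq.symm, mul_inv_cancel_right]
    rw [this] at h1
    calc x * x = x⁻¹ * x := by rw [← h1]
      _ = 1 := inv_mul_cancel x
  have := mem_of_sq_mem (K := ⊥) ho (by rw [h3]; exact one_mem _)
  simpa using this

/-- An element centralising `a` modulo `O(C(b))` lifts to `C(a)`, for an involution `a`. -/
theorem lift_cent {b a g : G} (haa : a * a = 1) (hgb : Commute g b)
    (h : g * a * g⁻¹ * a⁻¹ ∈ R b) : ∃ ρ ∈ R b, Commute (ρ * g) a ∧ Commute (ρ * g) b := by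
  have ha' : a⁻¹ = a := inv_eq_of_mul_eq_one_right haa
  set a' := g * a * g⁻¹ with ha'def
  have haa' : a' * a' = 1 := by
    calc a' * a' = g * (a * a) * g⁻¹ := by rw [ha'def]; group
      _ = 1 := by rw [haa, mul_one, mul_inv_cancel]
  have hy : a' * a ∈ R b := by rwa [ha'] at h
  obtain ⟨m, hm⟩ := odd_orderOf_of_mem (odd_oddOf _) hy
  refine ⟨(a' * a) ^ (m : ℤ), zpow_mem hy _, ?_, ?_⟩
  · have hconj : (a' * a) ^ (m : ℤ) * a' * ((a' * a) ^ (m : ℤ))⁻¹ = a := by
      rw [Involutions.zpow_mul_eq haa' haa, mul_assoc, ← zpow_neg, ← zpow_add]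
      have : (a' * a) ^ (-(m : ℤ) + -(m : ℤ)) = a' * a := by
        rw [show (-(m : ℤ) + -(m : ℤ)) = 1 + -((2 * m + 1 : ℕ) : ℤ) by push_cast; ring, zpow_add, zpow_one,
          zpow_neg, zpow_natCast, ← hm, pow_orderOf_eq_one, inv_one, mul_one]
      rw [this, ← mul_assoc, haa', one_mul]
    set ρ := (a' * a) ^ (m : ℤ)
    show ρ * g * a = a * (ρ * g)
    calc ρ * g * a = ρ * a' * ρ⁻¹ * (ρ * g) := by rw [ha'def]; group
      _ = a * (ρ * g) := by rw [hconj]
  · exact ((R_comm (zpow_mem hy _))).mul_left hgb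

/-- The elements of `C(b)` centralising all of `T` modulo `O(C(b))`. -/
def modCent (b : G) (T : Set G) (hT : ∀ z ∈ T, Commute z b) : Subgroup G where
  carrier := {g | Commute g b ∧ ∀ z ∈ T, g * z * g⁻¹ * z⁻¹ ∈ R b}
  one_mem' := ⟨Commute.one_left b, fun z _ => by simp [Subgroup.one_mem]⟩
  mul_mem' := fun {g h} hg hh => ⟨hg.1.mul_left hh.1, fun z hz => by
    have h1 := (Subgroup.mem_normalizer_iff.mp (cent_le_normalizer_R hg.1) _).mp (hh.2 z hz)
    have h2 := (R b).mul_mem h1 (hg.2 z hz)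
    convert h2 using 1
    group⟩
  inv_mem' := fun {g} hg => ⟨hg.1.inv_left, fun z hz => by
    have h1 := (Subgroup.mem_normalizer_iff''.mp (cent_le_normalizer_R hg.1) _).mp ((R b).inv_mem (hg.2 z hz))
    convert h1 using 1
    group⟩

theorem mem_modCent {b g : G} {T : Set G} {hT : ∀ z ∈ T, Commute z b} :
    g ∈ modCent b T hT ↔ Commute g b ∧ ∀ z ∈ T, g * z * g⁻¹ * z⁻¹ ∈ R b := Iff.rfl

end Finite

end CfsgLib.AfterFT.PairClosed
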