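import Cfsg.Agent.Lib.AfterFT.PairClosed.Side
import Cfsg.Agent.Lib.SolvSF.Apply

/-!
The signalizer functor on `A = V₁ V₂`: its closure `W` has odd order, is normalised by `O(C(x))` for `x ∈ V₂#`
and contains `[O(C(x)), V₁]`.
-/

set_option autoImplicit false
set_option linter.unusedSectionVars false
set_option linter.style.haveILetI false

namespace CfsgLib.AfterFT.PairClosed

open Cfsg CfsgLib
open scoped commutatorElement

universe u
variable {G : Type u} [Group G] [Finite G] {s : Setting G}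

namespace Quad

variable (q : Quad s)

/-- `Y` is an `A`-invariant subgroup of `O(C(a))` balanced against all of `A`. -/
def Good (a : G) (Y : Subgroup G) : Prop :=
  Y ≤ R a ∧ q.A ≤ Subgroup.normalizer (Y : Set G) ∧
    ∀ b ∈ q.A, b ≠ 1 → Y ⊓ Subgroup.centralizer {b} ≤ R b

/-- The functor. -/
def theta (a : G) : Subgroup G := sSup {Y | q.Good a Y}

theorem swap_good {a : G} {Y : Subgroup G} : q.swap.Good a Y ↔ q.Good a Y := by
  rw [Good, Good, swap_A]

theorem swap_theta (a : G) : q.swap.theta a = q.theta a := by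
  unfold theta
  simp only [swap_good]

/-- `O(C(a)) ∩ O(C(v)) ∩ O(C(t))`. -/
def Q (_q : Quad s) (a v t : G) : Subgroup G := R a ⊓ R v ⊓ R t

/-- The explicit form of the functor. -/
def thetaAt (a v t : G) : Subgroup G := q.P a t ⊔ q.Q a v t

variable {q} {a v t : G}

theorem Datum.swap_of_mul (d : q.Datum a v t) (h : a = v * t) : q.swap.Datum a t v where
  hv := d.ht
  hv1 := d.ht1
  ht := d.hv
  ht1 := d.hv1
  ha := Or.inr (h.trans (q.cc v d.hv t d.ht).eq)

theorem Datum.fixed_le_Q (d : q.Datum a v t) : q.P a t ⊓ Subgroup.centralizer {t} ≤ q.Q a v t := by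
  refine le_inf (le_inf (inf_le_left.trans (q.P_le d.mem (q.V₂_le d.ht))) ?_) d.fixed_le
  rcases d.ha with h | h
  · rw [← h]; exact inf_le_left.trans (q.P_le d.mem (q.V₂_le d.ht))
  · have htva : t = v * a := by rw [h, ← mul_assoc, q.h₁.sq v d.hv, one_mul]
    have hle : q.P a t ≤ q.swap.P a v := by
      refine Subgroup.commutator_le.mpr fun r hr u hu => ?_
      obtain ⟨k, rfl⟩ := Subgroup.mem_zpowers_iff.mp hu
      have hk : t ^ k = v ^ k * a ^ k := by
        rw [htva]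
        exact (q.comm_A (q.V₁_le d.hv) d.mem).mul_zpow k
      have e : ⁅r, t ^ k⁆ = ⁅r, v ^ k⁆ := by
        rw [commutatorElement_def, commutatorElement_def, hk]
        calc r * (v ^ k * a ^ k) * r⁻¹ * (v ^ k * a ^ k)⁻¹
            = r * v ^ k * (a ^ k * r⁻¹) * (a ^ k)⁻¹ * (v ^ k)⁻¹ := by group
          _ = r * v ^ k * (r⁻¹ * a ^ k) * (a ^ k)⁻¹ * (v ^ k)⁻¹ := by
            rw [((R_comm hr).inv_left.zpow_right k).eq]
          _ = _ := by group
      rw [e]
      exact Subgroup.commutator_mem_commutator hr (Subgroup.zpow_mem_zpowers v k)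
    intro x hx
    refine (d.swap_of_mul h).fixed_le ⟨hle hx.1, mem_cent.mpr ?_⟩
    have hxa := R_comm (q.P_le d.mem (q.V₂_le d.ht) hx.1)
    have hvat : v = a * t := by rw [h, mul_assoc, q.h₂.sq t d.ht, mul_one]
    rw [hvat]
    exact hxa.mul_right (mem_cent.mp hx.2)

theorem Datum.Q_fixed_le (d : q.Datum a v t) {b : G} (hb : b ∈ q.A) (hb1 : b ≠ 1) :
    q.Q a v t ⊓ Subgroup.centralizer {b} ≤ R b := fun _ hx =>
  s.mem_R_of_both (q.proper hb hb1) (q.mem_T₁ d.hv hb) (q.mem_T₂ d.ht hb) hx.1.1.2 hx.1.2 (mem_cent.mp hx.2)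

theorem A_le_normalizer_Q (d : q.Datum a v t) : q.A ≤ Subgroup.normalizer (q.Q a v t : Set G) :=
  fun _ hc => mem_normalizer_inf (mem_normalizer_inf (q.A_le_normalizer_R d.mem hc)
    (q.A_le_normalizer_R (q.V₁_le d.hv) hc)) (q.A_le_normalizer_R (q.V₂_le d.ht) hc)

theorem Datum.P_fixed_le (d : q.Datum a v t) {b : G} (hb : b ∈ q.A) (hb1 : b ≠ 1) :
    q.P a t ⊓ Subgroup.centralizer {b} ≤ R b := by
  have htA := q.V₂_le d.ht
  set Y : Subgroup G := q.P a t ⊓ Subgroup.centralizer {b} with hY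
  have hYR : Y ≤ R a := inf_le_left.trans (q.P_le d.mem htA)
  have htY : t ∈ Subgroup.normalizer (Y : Set G) :=
    mem_normalizer_inf (q.A_le_normalizer_P d.mem htA htA) (mem_normalizer_cent (q.comm_A htA hb))
  rw [← coprime_commutator_sup (Subgroup.zpowers_le.mpr htY)
    (coprime_two (isPGroup_zpowers_two (q.sq_A htA)) (odd_of_le_R hYR)) (Or.inr (q.solvable_of_le_R hYR))]
  refine sup_le (comm_zpowers_le (q.sq_A htA) htY fun e he hinv =>
    d.inverted hb hb1 (hYR he) (mem_cent.mp he.2) hinv) fun x hx => ?_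
  exact d.Q_fixed_le hb hb1 ⟨d.fixed_le_Q ⟨hx.1.1,
    Subgroup.centralizer_le (by simp) hx.2⟩, hx.1.2⟩

theorem Datum.good_P (d : q.Datum a v t) : q.Good a (q.P a t) :=
  ⟨q.P_le d.mem (q.V₂_le d.ht), q.A_le_normalizer_P d.mem (q.V₂_le d.ht), fun _ hb hb1 => d.P_fixed_le hb hb1⟩

theorem Datum.good_thetaAt (d : q.Datum a v t) : q.Good a (q.thetaAt a v t) := by
  have htA := q.V₂_le d.ht
  have hQR : q.Q a v t ≤ R a := inf_le_left.trans inf_le_left
  refine ⟨sup_le (q.P_le d.mem htA) hQR, fun c hc => mem_normalizer_sup (q.A_le_normalizer_P d.mem htA hc)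
    (A_le_normalizer_Q d hc), fun b hb hb1 => ?_⟩
  intro x hx
  have hQN : q.Q a v t ≤ Subgroup.normalizer (q.P a t : Set G) :=
    hQR.trans (left_le_normalizer_commutator (Subgroup.zpowers t) (R a))
  obtain ⟨p, hp, y, hy, rfl⟩ := mem_sup_of_le_normalizer hQN hx.1
  have hbN : ∀ {Z : Subgroup G}, q.A ≤ Subgroup.normalizer (Z : Set G) →
      Subgroup.zpowers b ≤ Subgroup.normalizer (Z : Set G) := fun h => (Subgroup.zpowers_le.mpr hb).trans h
  obtain ⟨p', hp', y', hy', e⟩ := coprime_factorisation (A := Subgroup.zpowers b) (K := R a)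
    (coprime_two (isPGroup_zpowers_two (q.sq_A hb)) (odd_oddOf _)) (Or.inr (q.solvable_of_le_R le_rfl))
    (q.P_le d.mem htA) (hbN (q.A_le_normalizer_P d.mem htA)) (hbN (A_le_normalizer_Q d)) hp hy
    (by rw [Subgroup.zpowers_eq_closure, Subgroup.centralizer_closure]; exact hx.2)
  have hc : Subgroup.centralizer (Subgroup.zpowers b : Set G) ≤ Subgroup.centralizer {b} :=
    Subgroup.centralizer_le (by simp)
  rw [e]
  exact mul_mem (d.P_fixed_le hb hb1 ⟨hp'.1, hc hp'.2⟩) (d.Q_fixed_le hb hb1 ⟨hy'.1, hc hy'.2⟩)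

theorem Datum.good_le (d : q.Datum a v t) {Y : Subgroup G} (hY : q.Good a Y) : Y ≤ q.thetaAt a v t := by
  have htA := q.V₂_le d.ht
  rw [← coprime_commutator_sup (Subgroup.zpowers_le.mpr (hY.2.1 htA))
    (coprime_two (isPGroup_zpowers_two (q.sq_A htA)) (odd_of_le_R hY.1)) (Or.inr (q.solvable_of_le_R hY.1))]
  refine sup_le ((Subgroup.commutator_mono hY.1 le_rfl).trans le_sup_left) fun x hx => Subgroup.mem_sup_right ?_
  have hxt : Commute x t := mem_cent.mp (Subgroup.centralizer_le (by simp) hx.2)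
  have hxR := hY.1 hx.1
  refine ⟨⟨hxR, hY.2.2 v (q.V₁_le d.hv) d.hv1 ⟨hx.1, mem_cent.mpr ?_⟩⟩,
    hY.2.2 t htA d.ht1 ⟨hx.1, mem_cent.mpr hxt⟩⟩
  rcases d.ha with h | h
  · rw [← h]; exact R_comm hxR
  · have hvat : v = a * t := by rw [h, mul_assoc, q.h₂.sq t d.ht, mul_one]
    rw [hvat]
    exact (R_comm hxR).mul_right hxt

theorem Datum.theta_eq (d : q.Datum a v t) : q.theta a = q.thetaAt a v t :=
  le_antisymm (sSup_le fun _ hY => d.good_le hY) (le_sSup d.good_thetaAt)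

theorem exists_ne_one (V : Subgroup G) {T : Set G} (h : IsFour T V) : ∃ x ∈ V, x ≠ 1 := by
  by_contra hcon
  push Not at hcon
  have := h.card
  rw [(Subgroup.eq_bot_iff_forall _).mpr hcon, Subgroup.card_bot] at this
  omega

variable (q)

theorem good_theta {a : G} (ha : a ∈ q.A) (ha1 : a ≠ 1) : q.Good a (q.theta a) := by
  obtain ⟨v, hv, w, hw, rfl⟩ := q.mem_A.mp ha
  obtain ⟨v₀, hv₀, hv₀1⟩ := exists_ne_one _ q.h₁
  obtain ⟨w₀, hw₀, hw₀1⟩ := exists_ne_one _ q.h₂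
  by_cases hv1 : v = 1
  · subst hv1
    rw [one_mul] at ha1 ⊢
    have d : q.swap.Datum w w v₀ := ⟨hw, ha1, hv₀, hv₀1, Or.inl rfl⟩
    have h := d.good_thetaAt
    rw [← d.theta_eq, swap_theta, swap_good] at h
    exact h
  by_cases hw1 : w = 1
  · subst hw1
    rw [mul_one]
    have d : q.Datum v v w₀ := ⟨hv, hv1, hw₀, hw₀1, Or.inl rfl⟩
    rw [d.theta_eq]
    exact d.good_thetaAt
  · have d : q.Datum (v * w) v w := ⟨hv, hv1, hw, hw1, Or.inr rfl⟩
    rw [d.theta_eq]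
    exact d.good_thetaAt

theorem balance {a : G} (ha : a ∈ q.A) (ha1 : a ≠ 1) {b : G} (hb : b ∈ q.A) (hb1 : b ≠ 1) :
    q.theta a ⊓ Subgroup.centralizer {b} ≤ q.theta b := by
  have h := q.good_theta ha ha1
  exact le_sSup ⟨h.2.2 b hb hb1, fun c hc => mem_normalizer_inf (h.2.1 hc) (mem_normalizer_cent (q.comm_A hc hb)),
    fun c hc hc1 => (inf_le_inf_right _ inf_le_left).trans (h.2.2 c hc hc1)⟩

theorem two_pow_three_le : 2 ^ 3 ≤ Nat.card q.A := by
  have hinj : Function.Injective (fun p : q.V₁ × q.V₂ =>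
      (⟨(p.1 : G) * p.2, Subgroup.mul_mem_sup p.1.2 p.2.2⟩ : q.A)) := by
    rintro ⟨v, w⟩ ⟨v', w'⟩ h
    have e : (v : G) * w = v' * w' := congrArg Subtype.val h
    have e' : (v' : G)⁻¹ * v = (w' : G) * (w : G)⁻¹ := by
      calc (v' : G)⁻¹ * v = (v' : G)⁻¹ * ((v : G) * w) * (w : G)⁻¹ := by group
        _ = _ := by rw [e]; group
    have h1 := (q.h₁.sub _ (q.V₁.mul_mem (q.V₁.inv_mem v'.2) v.2)).1
    have h2 := (q.h₂.sub _ (q.V₂.mul_mem w'.2 (q.V₂.inv_mem w.2))).1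
    have hv : (v : G) = v' := (inv_mul_eq_one.mp (Pair.eq_one_of_mem_both h1 (e' ▸ h2))).symm
    rw [hv] at e
    exact Prod.ext (Subtype.ext hv) (Subtype.ext (mul_left_cancel e))
  have h := Nat.card_le_card_of_injective _ hinj
  rw [Nat.card_prod, q.h₁.card, q.h₂.card] at h
  omega

/-- The closure of the functor. -/
def W : Subgroup G := ⨆ a : {a : G // a ∈ q.A ∧ a ≠ 1}, q.theta a

theorem W_spec : Odd (Nat.card q.W) ∧ ∀ a ∈ q.A, a ≠ 1 → q.W ⊓ Subgroup.centralizer {a} = q.theta a := by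
  haveI : Fact (Nat.Prime 2) := ⟨Nat.prime_two⟩
  have hR : ∀ a ∈ q.A, a ≠ 1 → q.theta a ≤ R a := fun a ha ha1 => (q.good_theta ha ha1).1
  have h := CfsgLib.SolvSF.closure_spec (p := 2) (θ := q.theta)
    (CfsgLib.SolvSF.ea_of_comm (fun a ha b hb => (q.comm_A ha hb).eq)
      (fun a ha => by rw [pow_two]; exact q.sq_A ha)) q.two_pow_three_le
    ⟨⟨fun a ha ha1 => (hR a ha ha1).trans (oddOf_le _),
      fun a ha ha1 => by
        have := odd_of_le_R (hR a ha ha1)
        exact fun hd => (Nat.not_even_iff_odd.mpr this) (even_iff_two_dvd.mpr hd),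
      fun a ha ha1 b hb x hx => (Subgroup.mem_normalizer_iff.mp ((q.good_theta ha ha1).2.1 hb) x).mp hx,
      fun a ha ha1 b hb hb1 => q.balance ha ha1 hb hb1⟩,
      fun a ha ha1 => q.solvable_of_le_R (hR a ha ha1)⟩
  exact ⟨Nat.not_even_iff_odd.mp fun he => h.1.2.1 (even_iff_two_dvd.mp he), h.2⟩

theorem theta_le_W {a : G} (ha : a ∈ q.A) (ha1 : a ≠ 1) : q.theta a ≤ q.W :=
  le_iSup_of_le (f := fun a : {a : G // a ∈ q.A ∧ a ≠ 1} => q.theta a) ⟨a, ha, ha1⟩ le_rfl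

theorem A_le_normalizer_W : q.A ≤ Subgroup.normalizer (q.W : Set G) := by
  intro c hc
  rw [Subgroup.mem_normalizer_iff_map_conj_eq, W, Subgroup.map_iSup]
  refine iSup_congr fun a => ?_
  exact Subgroup.mem_normalizer_iff_map_conj_eq.mp ((q.good_theta a.2.1 a.2.2).2.1 hc)

theorem W_le_iSup : q.W ≤ ⨆ v ∈ {v : G | v ∈ q.V₁ ∧ v ≠ 1}, q.theta v := by
  haveI : IsMulCommutative q.V₁ := ⟨⟨fun x y => Subtype.ext (q.h₁.comm x x.2 y y.2).eq⟩⟩
  have hnc : ¬ IsCyclic q.V₁ := by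
    intro hc
    obtain ⟨g, hg⟩ := hc.exists_generator
    have h4 : orderOf g = 4 := by rw [orderOf_eq_card_of_forall_mem_zpowers hg, q.h₁.card]
    have := orderOf_le_of_pow_eq_one (x := g) two_pos
      (Subtype.ext (by simpa [pow_two] using q.h₁.sq g g.2))
    omega
  conv_lhs => rw [← coprime_generated_by_centralizers hnc (q.V₁_le.trans q.A_le_normalizer_W)
    (coprime_two (fun x => ⟨1, Subtype.ext (by simpa [pow_two] using q.h₁.sq x x.2)⟩) q.W_spec.1)]
  refine iSup₂_mono fun v hv => ?_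
  rw [q.W_spec.2 v (q.V₁_le hv.1) hv.2]

theorem cent_le_normalizer_W {x ρ : G} (hx : x ∈ q.V₂) (hx1 : x ≠ 1) (hρx : Commute ρ x)
    (hρ : ∀ v ∈ q.V₁, Commute ρ v) : ρ ∈ Subgroup.normalizer (q.W : Set G) := by
  have key : ∀ ρ : G, Commute ρ x → (∀ v ∈ q.V₁, Commute ρ v) → ∀ w ∈ q.W, ρ * w * ρ⁻¹ ∈ q.W := by
    intro ρ hρx hρ w hw
    suffices q.W ≤ q.W.comap ((MulAut.conj ρ : G ≃* G) : G →* G) from this hw
    refine q.W_le_iSup.trans (iSup₂_le fun v hv => ?_)
    have d : q.Datum v v x := ⟨hv.1, hv.2, hx, hx1, Or.inl rfl⟩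
    intro y hy
    refine q.theta_le_W (q.V₁_le hv.1) hv.2 ?_
    rw [d.theta_eq] at hy ⊢
    have hN : ρ ∈ Subgroup.normalizer (q.thetaAt v v x : Set G) := mem_normalizer_sup
      (mem_normalizer_commutator (cent_le_normalizer_R (hρ v hv.1)) (mem_normalizer_zpowers hρx))
      (mem_normalizer_inf (mem_normalizer_inf (cent_le_normalizer_R (hρ v hv.1))
        (cent_le_normalizer_R (hρ v hv.1))) (cent_le_normalizer_R hρx))
    exact (Subgroup.mem_normalizer_iff.mp hN y).mp hy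
  refine Subgroup.mem_normalizer_iff.mpr fun w => ⟨key ρ hρx hρ w, fun hw => ?_⟩
  have := key ρ⁻¹ hρx.inv_left (fun v hv => (hρ v hv).inv_left) _ hw
  simpa [mul_assoc] using this

theorem commutator_R_le_W {x : G} (hx : x ∈ q.V₂) (hx1 : x ≠ 1) : ⁅R x, q.V₁⁆ ≤ q.W := by
  rw [Subgroup.commutator_le]
  intro r hr v hv
  by_cases hv1 : v = 1
  · subst hv1; simp [q.W.one_mem]
  have d : q.swap.Datum x x v := ⟨hx, hx1, hv, hv1, Or.inl rfl⟩
  have h : q.swap.P x v ≤ q.theta x := by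
    rw [← swap_theta]
    exact le_sSup d.good_P
  exact q.theta_le_W (q.V₂_le hx) hx1
    (h (Subgroup.commutator_mem_commutator hr (Subgroup.mem_zpowers v)))

theorem R_le_normalizer_W {x : G} (hx : x ∈ q.V₂) (hx1 : x ≠ 1) :
    R x ≤ Subgroup.normalizer (q.W : Set G) := by
  rw [← coprime_commutator_sup (K := R x) (q.V₁_le.trans (q.A_le_normalizer_R (q.V₂_le hx)))
    (coprime_two (fun x => ⟨1, Subtype.ext (by simpa [pow_two] using q.h₁.sq x x.2)⟩) (odd_oddOf _))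
    (Or.inr (q.solvable_of_le_R le_rfl))]
  refine sup_le ((q.commutator_R_le_W hx hx1).trans Subgroup.le_normalizer) fun ρ hρ => ?_
  exact q.cent_le_normalizer_W hx hx1 (R_comm hρ.1)
    fun v hv => (show Commute v ρ from hρ.2 v hv).symm

end Quad

end CfsgLib.AfterFT.PairClosed
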