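import Cfsg.Agent.Lib.AfterFT.PairClosed.Functor

/-!
Involutions of the two kinds commute.
-/

set_option autoImplicit false
set_option linter.unusedSectionVars false
set_option linter.style.haveILetI false

namespace CfsgLib.AfterFT.PairClosed

open Cfsg CfsgLib
open scoped commutatorElement

universe u
variable {G : Type u} [Group G] [Finite G]

theorem map_conj_R_le (g a : G) :
    (R a).map ((MulAut.conj g : G ≃* G) : G →* G) ≤ R (g * a * g⁻¹) := by
  refine le_oddOf ?_ ?_ ?_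
  · rintro _ ⟨x, hx, rfl⟩
    refine mem_cent.mpr ?_
    show Commute (g * x * g⁻¹) (g * a * g⁻¹)
    exact (R_comm hx).map (MulAut.conj g)
  · intro h hh
    have hh' : Commute (g⁻¹ * h * g) a := by
      have := (mem_cent.mp hh).map (MulAut.conj g⁻¹)
      simpa [mul_assoc] using this
    have hN := cent_le_normalizer_R hh'
    rw [Subgroup.mem_normalizer_iff_map_conj_eq] at hN ⊢
    conv_rhs => rw [← hN]
    rw [Subgroup.map_map, Subgroup.map_map]
    congr 1
    ext x
    show h * (g * x * g⁻¹) * h⁻¹ = g * (g⁻¹ * h * g * x * (g⁻¹ * h * g)⁻¹) * g⁻¹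
    group
  · rw [Subgroup.card_map_of_injective (MulAut.conj g).injective]
    exact odd_oddOf _

/-- The four-group generated by two commuting involutions. -/
theorem exists_four {T : Set G} {z u : G} (hz : z * z = 1) (hu : u * u = 1) (hz1 : z ≠ 1) (hu1 : u ≠ 1)
    (hne : u ≠ z) (hc : Commute z u) (hT1 : (1 : G) ∈ T) (hTz : z ∈ T) (hTu : u ∈ T) (hTp : z * u ∈ T) :
    ∃ V : Subgroup G, IsFour T V ∧ z ∈ V := by
  classical
  have hzi : z⁻¹ = z := inv_eq_of_mul_eq_one_right hz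
  have hui : u⁻¹ = u := inv_eq_of_mul_eq_one_right hu
  let V : Subgroup G :=
    { carrier := {1, z, u, z * u}
      one_mem' := Or.inl rfl
      mul_mem' := by
        have h1 : u * z = z * u := hc.eq.symm
        have h2 : z * (z * u) = u := by rw [← mul_assoc, hz, one_mul]
        have h3 : u * (z * u) = z := by rw [← h1, ← mul_assoc, hu, one_mul]
        have h4 : z * u * z = u := by rw [mul_assoc, h1, h2]
        have h5 : z * u * u = z := by rw [mul_assoc, hu, mul_one]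
        have h6 : z * u * (z * u) = 1 := by rw [← mul_assoc, h4, hu]
        intro a b ha hb
        rcases ha with rfl | rfl | rfl | rfl <;> rcases hb with rfl | rfl | rfl | rfl <;>
          simp [hz, hu, h1, h2, h3, h4, h5, h6]
      inv_mem' := by
        have h1 : (z * u)⁻¹ = z * u := by rw [mul_inv_rev, hzi, hui, hc.eq]
        intro a ha
        rcases ha with rfl | rfl | rfl | rfl <;> simp [hzi, hui, h1] }
  have hzu : z * u ≠ 1 := fun e => hne (by
    rw [mul_eq_one_iff_eq_inv, hui] at e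
    exact e.symm)
  refine ⟨V, ⟨?_, ?_, ?_, ?_⟩, Or.inr (Or.inl rfl)⟩
  · rintro v (rfl | rfl | rfl | rfl)
    exacts [hT1, hTz, hTu, hTp]
  · have h1 : Commute z (z * u) := (Commute.refl z).mul_right hc
    have h2 : Commute u (z * u) := hc.symm.mul_right (Commute.refl u)
    rintro a (rfl | rfl | rfl | rfl) b (rfl | rfl | rfl | rfl)
    exacts [Commute.refl _, Commute.one_left _, Commute.one_left _, Commute.one_left _, Commute.one_right _,
      Commute.refl _, hc, h1, Commute.one_right _, hc.symm, Commute.refl _, h2, Commute.one_right _, h1.symm,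
      h2.symm, Commute.refl _]
  · rintro v (rfl | rfl | rfl | rfl)
    exacts [one_mul 1, hz, hu, by rw [mul_assoc, ← mul_assoc u z u, ← hc.eq, mul_assoc z u u, hu, mul_one, hz]]
  · rw [← SetLike.coe_sort_coe, Nat.card_coe_set_eq]
    show ({1, z, u, z * u} : Set G).ncard = 4
    rw [Set.ncard_insert_of_notMem ?_ (Set.toFinite _), Set.ncard_insert_of_notMem ?_ (Set.toFinite _),
      Set.ncard_pair]
    · intro e
      exact hz1 (by simpa using e)
    · simp only [Set.mem_insert_iff, Set.mem_singleton_iff, not_or]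
      exact ⟨hne.symm, fun e => hu1 (by simpa using e)⟩
    · simp only [Set.mem_insert_iff, Set.mem_singleton_iff, not_or]
      exact ⟨fun e => hz1 e.symm, fun e => hu1 e.symm, fun e => hzu e.symm⟩

namespace Setting

variable (s : Setting G)

/-- An involution of `S₁` lies in a four-subgroup of `S₁`. -/
theorem exists_partner {z : G} (hz : z ∈ s.D.S₁) (hz2 : z * z = 1) (hz1 : z ≠ 1) :
    ∃ u ∈ s.D.S₁, u * u = 1 ∧ u ≠ 1 ∧ u ≠ z ∧ Commute z u := by
  have hzI : z ∈ s.D.I₁ := ⟨Pair.mem_C₁_of_mem hz, hz2⟩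
  obtain ⟨g, hg, hne⟩ := s.exists_moved hzI hz1
  have hvI := Pair.conj_mem_I₁ hzI g
  -- two distinct involutions of `S₁`
  have hT : IsPGroup 2 (Subgroup.zpowers z ⊔ Subgroup.zpowers (g * z * g⁻¹) : Subgroup G) :=
    IsPGroup.to_sup_of_normal_right' (Pair.isPGroup_zpowers hzI.1) (Pair.isPGroup_zpowers hvI.1)
      (Subgroup.zpowers_le.mpr (mem_normalizer_zpowers hg))
  obtain ⟨k, hk⟩ := Pair.exists_conj_le hT s.D
  have ha := Pair.mem_S₁_of_mem hzI.1 (hk z (Subgroup.mem_sup_left (Subgroup.mem_zpowers z)))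
  have hb := Pair.mem_S₁_of_mem hvI.1 (hk _ (Subgroup.mem_sup_right (Subgroup.mem_zpowers _)))
  obtain ⟨o, ho, ho2, ho1, hoz⟩ : ∃ o ∈ s.D.S₁, o * o = 1 ∧ o ≠ 1 ∧ o ≠ z := by
    by_cases h : k * z * k⁻¹ = z
    · refine ⟨_, hb, (Pair.conj_mem_I₁ hvI k).2, fun e => ?_, fun e => ?_⟩
      · exact hz1 (by simpa using e)
      · exact hne (mul_left_cancel (mul_right_cancel (e.trans h.symm)))
    · exact ⟨_, ha, (Pair.conj_mem_I₁ hzI k).2, fun e => hz1 (by simpa using e), h⟩
  -- a central involution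
  haveI : Nontrivial s.D.S₁ := ⟨⟨⟨z, hz⟩, 1, fun e => hz1 (congrArg Subtype.val e)⟩⟩
  have hS : IsPGroup 2 s.D.S₁ := s.D.P.2.to_le s.D.sc₁.1
  haveI : Fact (Nat.Prime 2) := ⟨Nat.prime_two⟩
  haveI := hS.center_nontrivial
  obtain ⟨c, hc⟩ : ∃ c : Subgroup.center s.D.S₁, orderOf c = 2 := by
    obtain ⟨n, hn, hcard⟩ := (hS.to_subgroup (Subgroup.center s.D.S₁)).nontrivial_iff_card.mp inferInstance
    exact exists_prime_orderOf_dvd_card' 2 (by rw [hcard]; exact dvd_pow_self 2 hn.ne')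
  have hc2 : ((c : s.D.S₁) : G) * ((c : s.D.S₁) : G) = 1 := by
    have h := (Involutions.orderOf_eq_two_iff'.mp hc).1
    exact congrArg (fun x : Subgroup.center s.D.S₁ => ((x : s.D.S₁) : G)) h
  have hc1 : ((c : s.D.S₁) : G) ≠ 1 := fun e =>
    (Involutions.orderOf_eq_two_iff'.mp hc).2 (Subtype.ext (Subtype.ext e))
  have hcc : ∀ x ∈ s.D.S₁, Commute x ((c : s.D.S₁) : G) := fun x hx =>
    congrArg Subtype.val (Subgroup.mem_center_iff.mp c.2 ⟨x, hx⟩)
  by_cases h : ((c : s.D.S₁) : G) = z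
  · exact ⟨o, ho, ho2, ho1, hoz, h ▸ (hcc o ho).symm⟩
  · exact ⟨_, (c : s.D.S₁).2, hc2, hc1, h, hcc z hz⟩

/-- A four-group of involutions of the first kind through `z`, centralising a given group `U` of commuting
involutions of the second kind centralising `z`. -/
theorem exists_fourGroup {z : G} (hz : z ∈ s.D.I₁) (hz1 : z ≠ 1) (U : Subgroup G)
    (hU : ∀ u ∈ U, u ∈ s.D.I₂ ∧ Commute z u) (hU2 : IsPGroup 2 U) :
    ∃ V : Subgroup G, IsFour s.D.I₁ V ∧ z ∈ V ∧ ∀ v ∈ V, ∀ u ∈ U, Commute v u := by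
  have hT : IsPGroup 2 (Subgroup.zpowers z ⊔ U : Subgroup G) := by
    refine IsPGroup.to_sup_of_normal_right' (Pair.isPGroup_zpowers hz.1) hU2 (Subgroup.zpowers_le.mpr ?_)
    refine Subgroup.mem_normalizer_iff.mpr fun x => ⟨fun hx => ?_, fun hx => ?_⟩
    · rw [(hU x hx).2.eq, mul_inv_cancel_right]; exact hx
    · have : x = z * x * z⁻¹ := by
        calc x = z⁻¹ * (z * x * z⁻¹) * z := by group
          _ = z * x * z⁻¹ := by rw [((hU _ hx).2.inv_left).eq, mul_assoc, inv_mul_cancel, mul_one]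
      rw [this]; exact hx
  obtain ⟨k, hk⟩ := Pair.exists_conj_le hT s.D
  have hz₀ := Pair.mem_S₁_of_mem hz.1 (hk z (Subgroup.mem_sup_left (Subgroup.mem_zpowers z)))
  obtain ⟨u, hu, hu2, hu1, hne, huc⟩ := s.exists_partner hz₀ (Pair.conj_mem_I₁ hz k).2
    (fun e => hz1 (by simpa using e))
  set u' := k⁻¹ * u * k with hu'
  have hu'I : u' ∈ s.D.I₁ := by
    have := Pair.conj_mem_I₁ (D := s.D) ⟨Pair.mem_C₁_of_mem hu, hu2⟩ k⁻¹
    rwa [inv_inv] at this
  have hu'c : Commute z u' := by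
    have := huc.map (MulAut.conj k⁻¹)
    simpa [hu', mul_assoc] using this
  have hUu : ∀ w ∈ U, Commute u' w := fun w hw => by
    have h := s.D.comm _ hu _ (Pair.mem_S₂_of_mem (hU w hw).1.1 (hk w (Subgroup.mem_sup_right hw)))
    have h' := (show Commute u (k * w * k⁻¹) from h).map (MulAut.conj k⁻¹)
    simpa [hu', mul_assoc] using h'
  have hprod : z * u' ∈ s.D.I₁ := by
    refine ⟨⟨k, ?_⟩, ?_⟩
    · have := s.D.S₁.mul_mem hz₀ hu
      simpa [hu', mul_assoc] using this
    · rw [mul_assoc, ← mul_assoc u' z u', ← hu'c.eq, mul_assoc z u' u', hu'I.2, mul_one, hz.2]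
  obtain ⟨V, hV, hzV⟩ := exists_four (T := {x | x ∈ s.D.I₁ ∧ ∀ w ∈ U, Commute x w}) hz.2 hu'I.2 hz1
    (fun e => hu1 (by
      have : u = k * u' * k⁻¹ := by rw [hu']; group
      rw [this, e]; group))
    (fun e => hne (by
      have : u = k * u' * k⁻¹ := by rw [hu']; group
      rw [this, e]))
    hu'c ⟨Pair.one_mem_I₁, fun w _ => Commute.one_left w⟩ ⟨hz, fun w hw => (hU w hw).2⟩ ⟨hu'I, hUu⟩
    ⟨hprod, fun w hw => Commute.mul_left (hU w hw).2 (hUu w hw)⟩
  exact ⟨V, ⟨fun v hv => (hV.sub v hv).1, hV.comm, hV.sq, hV.card⟩, hzV,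
    fun v hv w hw => (hV.sub v hv).2 w hw⟩

variable {s}

/-- `⟨O(C(x)) : x ∈ V₂#⟩`. -/
def W3 (_s : Setting G) (V : Subgroup G) : Subgroup G := ⨆ x : {x : G // x ∈ V ∧ x ≠ 1}, R (x : G)

theorem R_le_W3 {V : Subgroup G} {x : G} (hx : x ∈ V) (hx1 : x ≠ 1) : R x ≤ s.W3 V :=
  le_iSup_of_le (f := fun x : {x : G // x ∈ V ∧ x ≠ 1} => R (x : G)) ⟨x, hx, hx1⟩ le_rfl

/-- For `z''` centralising `V₂`, the group `[O(C(z'' w)), w]` lies in `⟨O(C(x)) : x ∈ V₂#⟩`. -/
theorem commutator_le_W3 {V : Subgroup G} (hV : IsFour s.D.I₂ V) {w c : G} (hw : w ∈ V) (hw1 : w ≠ 1)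
    (hc : c ∈ s.D.I₁) (hcV : ∀ x ∈ V, Commute c x) : ⁅R (c * w), Subgroup.zpowers w⁆ ≤ s.W3 V := by
  classical
  set a := c * w with ha
  haveI : IsMulCommutative V := ⟨⟨fun x y => Subtype.ext (hV.comm x x.2 y y.2).eq⟩⟩
  have hV2 : IsPGroup 2 V := fun x => ⟨1, Subtype.ext (by simpa [pow_two] using hV.sq x x.2)⟩
  have hVa : ∀ x ∈ V, Commute x a := fun x hx => (hcV x hx).symm.mul_right (hV.comm x hx w hw)
  set P := ⁅R a, Subgroup.zpowers w⁆ with hP
  have hwR : Subgroup.zpowers w ≤ Subgroup.normalizer (R a : Set G) :=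
    Subgroup.zpowers_le.mpr (cent_le_normalizer_R (hVa w hw))
  have hPR : P ≤ R a := Stabilizer.commutator_le_left_of_normalizes hwR
  have hVP : V ≤ Subgroup.normalizer (P : Set G) := fun x hx =>
    mem_normalizer_commutator (cent_le_normalizer_R (hVa x hx)) (mem_normalizer_zpowers (hV.comm x hx w hw))
  have hodd : Odd (Nat.card P) := (odd_oddOf _).of_dvd_nat (Subgroup.card_dvd_of_le hPR)
  have hPP : P ≤ ⁅P, V⁆ := by
    conv_lhs => rw [hP, ← coprime_commutator_commutator hwR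
      (coprime_two (isPGroup_zpowers_two (hV.sq w hw)) (odd_oddOf _)) (Or.inr (s.odd _ (odd_oddOf _)))]
    exact Subgroup.commutator_mono le_rfl (Subgroup.zpowers_le.mpr hw)
  refine hPP.trans ((CfsgLib.AfterFT.commutator_le_iSup hVP (coprime_two hV2 hodd)).trans (iSup_le ?_))
  rintro ⟨A₀, hA₀, g, hg, hle⟩
  obtain ⟨x, hxA, hx1⟩ : ∃ x ∈ A₀, x ≠ (1 : G) := by
    by_contra hcon
    push Not at hcon
    rw [(Subgroup.eq_bot_iff_forall _).mpr hcon, bot_sup_eq] at hle
    have h4 := Subgroup.card_le_of_le hle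
    rw [hV.card, Nat.card_zpowers] at h4
    have := orderOf_le_of_pow_eq_one (x := g) two_pos (by rw [pow_two]; exact hV.sq g hg)
    omega
  have hxV := hA₀ hxA
  have hcen : Subgroup.centralizer (A₀ : Set G) ≤ Subgroup.centralizer {x} :=
    Subgroup.centralizer_le (by simpa using hxA)
  refine (Subgroup.commutator_mono (inf_le_inf_left P hcen) le_rfl).trans (le_trans ?_ (R_le_W3 hxV hx1))
  have hproper : Subgroup.centralizer ({x} : Set G) ≠ ⊤ := s.swap.not_central (hV.sub x hxV).1 hx1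
  have hcT : c ∈ s.T₁ x := ⟨hc, hcV x hxV⟩
  have hT : ∀ u ∈ V, u ∈ s.T₂ x := fun u hu => ⟨hV.sub u hu, hV.comm u hu x hxV⟩
  have hN : ∀ u ∈ V, u ∈ Subgroup.normalizer ((P ⊓ Subgroup.centralizer {x} : Subgroup G) : Set G) :=
    fun u hu => mem_normalizer_inf (hVP hu) (mem_normalizer_cent (hV.comm u hu x hxV))
  by_cases hxw : x = w
  · subst hxw
    have hK : ⁅P ⊓ Subgroup.centralizer {x}, V⁆ ≤ s.K₁ x := by
      rw [Subgroup.commutator_le]
      intro y hy u hu
      exact comm_zpowers_le (hV.sq u hu) (hN u hu)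
        (fun e he hinv => s.mem_K₁_of_inv hproper (hT u hu) (mem_cent.mp he.2)
          (odd_orderOf_of_mem (odd_oddOf _) (hPR he.1)) hinv)
        (Subgroup.commutator_mem_commutator hy (Subgroup.mem_zpowers u))
    intro e he
    have heP := commutator_le_of_le_normalizer (K := P ⊓ Subgroup.centralizer {x}) hN he
    exact s.mem_R_of_K hcT (hT x hw) (hcV x hw) ha (hPR heP.1) (hK he)
      (s.mem_K₂_of_R hproper hcT (Or.inr ha) (hPR heP.1) (mem_cent.mp heP.2))
  · have main : ∀ y ∈ P ⊓ Subgroup.centralizer {x}, ⁅y, w⁆ ∈ R x := fun y hy =>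
      comm_zpowers_le (hV.sq w hw) (hN w hw) (fun e he hinv => by
        have heR := hPR he.1
        have hex := mem_cent.mp he.2
        have ho := odd_orderOf_of_mem (odd_oddOf _) heR
        refine s.mem_R_of_K hcT (hT w hw) (hcV w hw) ha heR (s.mem_K₁_of_inv hproper (hT w hw) hex ho hinv)
          (s.mem_K₂_of_inv hproper hcT hex ho ?_)
        have hca : c = a * w := by rw [ha, mul_assoc, hV.sq w hw, mul_one]
        calc c * e * c⁻¹ = a * (w * e * w⁻¹) * a⁻¹ := by rw [hca]; group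
          _ = e⁻¹ := by rw [hinv, ((R_comm heR).inv_left).eq.symm, mul_inv_cancel_right])
        (Subgroup.commutator_mem_commutator hy (Subgroup.mem_zpowers w))
    rw [Subgroup.commutator_le]
    intro y hy u hu
    have hyx : Commute y x := mem_cent.mp hy.2
    rcases hV.cases hw hw1 hxV hx1 hxw hu with rfl | rfl | rfl | rfl
    · simp [(R x).one_mem]
    · exact main y hy
    · rw [commutatorElement_def, hyx.eq, mul_inv_cancel_right, mul_inv_cancel]
      exact (R u).one_mem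
    · have e : ⁅y, w * x⁆ = ⁅y, w⁆ := by
        rw [commutatorElement_def, commutatorElement_def]
        calc y * (w * x) * y⁻¹ * (w * x)⁻¹ = y * w * (x * y⁻¹) * x⁻¹ * w⁻¹ := by group
          _ = y * w * (y⁻¹ * x) * x⁻¹ * w⁻¹ := by rw [(hyx.inv_left).eq]
          _ = _ := by group
      rw [e]; exact main y hy

/-- Every `z` is `q y c y⁻¹ q⁻¹` with `c` centralising `V₂`, `q ∈ O(C(w))` and `y` inverted by `c` and `w`. -/
theorem decompose {V : Subgroup G} (hV : IsFour s.D.I₂ V) {w : G} (hw : w ∈ V) (hw1 : w ≠ 1) {z : G}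
    (hz : z ∈ s.D.I₁) :
    ∃ c q y : G, c ∈ s.D.I₁ ∧ (∀ x ∈ V, Commute c x) ∧ q ∈ R w ∧ z = q * (y * c * y⁻¹) * q⁻¹ ∧
      Odd (orderOf y) ∧ y ∈ s.W3 V ∧ c * y * c⁻¹ = y⁻¹ := by
  classical
  obtain ⟨z', r, hz', hz'w, hr, hzr, hzinv, hwinv, hR⟩ := s.exists_commuting hz (hV.sub w hw)
  obtain ⟨w', hw', hw'1, hw'w⟩ : ∃ x ∈ V, x ≠ 1 ∧ x ≠ w := by
    by_contra hcon
    push Not at hcon
    have hsub : (V : Set G) ⊆ {1, w} := fun x hx => by
      by_cases h : x = 1
      · exact Or.inl h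
      · exact Or.inr (hcon x hx h)
    have h2 := (Set.ncard_le_ncard hsub (Set.toFinite _)).trans (Set.ncard_insert_le _ _)
    rw [← Nat.card_coe_set_eq, Set.ncard_singleton, SetLike.coe_sort_coe, hV.card] at h2
    omega
  obtain ⟨c, q, hc, hcw', hq, hzc, -, -, -⟩ := s.exists_commuting hz' (hV.sub w' hw')
  have hproper : Subgroup.centralizer ({w} : Set G) ≠ ⊤ := s.swap.not_central (hV.sub w hw).1 hw1
  have hqR : q ∈ R w := by
    refine Subgroup.zpowers_le.mpr ?_ hq
    have h := ind_mem s.D s.ind hproper hz'.1 (mem_cent.mpr hz'w) (hV.sub w' hw').1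
      (mem_cent.mpr (hV.comm w' hw' w hw))
    rwa [inv_eq_of_mul_eq_one_right hz'.2, inv_eq_of_mul_eq_one_right (hV.sub w' hw').2,
      mul_assoc (z' * w') z' w'] at h
  have hqw : Commute q w := R_comm hqR
  have hce : c = q⁻¹ * z' * q := by rw [hzc]; group
  have hcw : Commute c w := by
    rw [hce]; exact (hqw.inv_left.mul_left hz'w).mul_left hqw
  have hcV : ∀ x ∈ V, Commute c x := fun x hx => by
    rcases hV.cases hw hw1 hw' hw'1 hw'w hx with rfl | rfl | rfl | rfl
    exacts [Commute.one_right c, hcw, hcw', hcw.mul_right hcw']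
  set y := q⁻¹ * r * q with hy
  have hro : Odd (orderOf r) := odd_orderOf_of_mem (odd_oddOf _) (Subgroup.zpowers_le.mpr hR hr)
  have hyo : Odd (orderOf y) := by
    have : y = q⁻¹ * r * q⁻¹⁻¹ := by rw [hy, inv_inv]
    rw [this, Involutions.orderOf_conj]
    exact hro
  have hwy : w * y * w⁻¹ = y⁻¹ := by
    calc w * y * w⁻¹ = (w * q⁻¹) * r * (q * w⁻¹) := by rw [hy]; group
      _ = (q⁻¹ * w) * r * (w⁻¹ * q) := by rw [← hqw.inv_left.eq, (hqw.inv_right).eq]
      _ = q⁻¹ * (w * r * w⁻¹) * q := by group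
      _ = y⁻¹ := by rw [hwinv, hy]; group
  refine ⟨c, q, y, hc, hcV, hqR, ?_, hyo, ?_, ?_⟩
  · rw [hzr, hy, hce]; group
  · have hyR : y ∈ R (c * w) := by
      have e : c * w = q⁻¹ * (z' * w) * q⁻¹⁻¹ := by
        rw [hce, inv_inv]
        calc q⁻¹ * z' * q * w = q⁻¹ * z' * (q * w) := by group
          _ = _ := by rw [hqw.eq]; group
      rw [e]
      refine map_conj_R_le q⁻¹ _ ⟨r, Subgroup.zpowers_le.mpr hR hr, ?_⟩
      show q⁻¹ * r * q⁻¹⁻¹ = y
      rw [inv_inv]
    refine mem_of_sq_mem hyo (commutator_le_W3 hV hw hw1 hc hcV ?_)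
    have := Subgroup.commutator_mem_commutator hyR (Subgroup.mem_zpowers w)
    have e : ⁅y, w⁆ = y * y := by
      rw [commutatorElement_def]
      calc y * w * y⁻¹ * w⁻¹ = y * (w * y * w⁻¹)⁻¹ := by group
        _ = y * y := by rw [hwy, inv_inv]
    rwa [e] at this
  · calc c * y * c⁻¹ = q⁻¹ * (z' * r * z'⁻¹) * q := by rw [hce, hy]; group
      _ = y⁻¹ := by rw [hzinv, hy]; group

/-- **Involutions of the two kinds commute.** -/
theorem commute_involutions {z w : G} (hz : z ∈ s.D.I₁) (hw : w ∈ s.D.I₂) : Commute z w := by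
  by_cases hw1 : w = 1
  · subst hw1; exact Commute.one_right z
  obtain ⟨V, hV, hwV, -⟩ := s.swap.exists_fourGroup hw hw1 ⊥
    (fun u hu => by rw [Subgroup.mem_bot.mp hu]; exact ⟨Pair.one_mem_I₁ (D := s.D), Commute.one_right w⟩)
    IsPGroup.of_bot
  have hV' : IsFour s.D.I₂ V := hV
  set H : Subgroup G := Subgroup.centralizer (V : Set G) ⊔ s.W3 V with hH
  have hmem : ∀ z ∈ s.D.I₁, z ∈ H := fun z hz => by
    obtain ⟨c, q, y, -, hcV, hq, rfl, -, hy, -⟩ := decompose hV' hwV hw1 hz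
    have hc : c ∈ H := Subgroup.mem_sup_left fun x hx => (hcV x hx).symm.eq
    have hqH : q ∈ H := Subgroup.mem_sup_right (R_le_W3 hwV hw1 hq)
    have hyH : y ∈ H := Subgroup.mem_sup_right hy
    exact H.mul_mem (H.mul_mem hqH (H.mul_mem (H.mul_mem hyH hc) (H.inv_mem hyH))) (H.inv_mem hqH)
  by_cases hHtop : H = ⊤
  swap
  · -- `H` proper: induction
    have hwH : w ∈ H := Subgroup.mem_sup_left fun x hx => (hV'.comm x hx w hwV).eq
    set N := Subgroup.closure s.D.I₁ with hN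
    haveI : N.Normal := by
      refine Subgroup.normalizer_eq_top_iff.mp (top_le_iff.mp fun g _ => ?_)
      rw [Subgroup.mem_normalizer_iff_map_conj_eq, hN, MonoidHom.map_closure]
      congr 1
      ext x
      constructor
      · rintro ⟨x', hx', rfl⟩; exact Pair.conj_mem_I₁ hx' g
      · intro hx
        exact ⟨g⁻¹ * x * g, by simpa using Pair.conj_mem_I₁ hx g⁻¹,
          by show g * (g⁻¹ * x * g) * g⁻¹ = x; group⟩
    have hzN : z ∈ N := Subgroup.subset_closure hz
    have h := ind_mem s.D s.ind hHtop hz.1 (hmem z hz) hw.1 hwH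
    have h1 : z * w * z⁻¹ * w⁻¹ ∈ N := by
      have := N.mul_mem hzN (‹N.Normal›.conj_mem _ (N.inv_mem hzN) w)
      simpa [mul_assoc] using this
    have h2 := eq_one_of_oddOf s.hO (show N ≤ H from (Subgroup.closure_le _).mpr hmem) h1 h
    rw [mul_inv_eq_one, mul_inv_eq_iff_eq_mul] at h2
    exact h2
  · -- `H = G`
    obtain ⟨c, q, y, hc, hcV, hq, hze, hyo, hy, hinv⟩ := decompose hV' hwV hw1 hz
    haveI hW3n : (s.W3 V).Normal := by
      refine Subgroup.normalizer_eq_top_iff.mp (top_le_iff.mp (hHtop ▸ sup_le ?_ Subgroup.le_normalizer))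
      intro g hg
      rw [Subgroup.mem_normalizer_iff_map_conj_eq, W3, Subgroup.map_iSup]
      exact iSup_congr fun x => Subgroup.mem_normalizer_iff_map_conj_eq.mp
        (cent_le_normalizer_R (show Commute (x : G) g from hg x x.2.1).symm)
    by_cases hc1 : c = 1
    · subst hc1
      rw [mul_one, mul_inv_cancel, mul_one, mul_inv_cancel] at hze
      rw [hze]; exact Commute.one_left w
    obtain ⟨V₁, hV₁, hcV₁, hcc⟩ := s.exists_fourGroup hc hc1 V (fun x hx => ⟨hV'.sub x hx, hcV x hx⟩)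
      (fun x => ⟨1, Subtype.ext (by simpa [pow_two] using hV'.sq x x.2)⟩)
    let Qd : Quad s := ⟨V₁, V, hV₁, hV', hcc⟩
    have hWN : s.W3 V ≤ Subgroup.normalizer (Qd.W : Set G) :=
      iSup_le fun x => Qd.R_le_normalizer_W x.2.1 x.2.2
    have hcomm : ∀ x ∈ V, x ≠ 1 → ∀ e ∈ R x, Commute e c := by
      intro x hx hx1 e he
      have hKN : Qd.W ⊓ s.W3 V ≤ oddOf (s.W3 V) := le_oddOf inf_le_right
        (fun g hg => mem_normalizer_inf (hWN hg) (Subgroup.le_normalizer hg))
        (Qd.W_spec.1.of_dvd_nat (Subgroup.card_dvd_of_le inf_le_left))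
      have h1 : ⁅e, c⁆ ∈ R x := by
        have hcx : c ∈ Subgroup.normalizer (R x : Set G) := cent_le_normalizer_R (hcV x hx)
        have := (R x).mul_mem he ((Subgroup.mem_normalizer_iff.mp hcx _).mp ((R x).inv_mem he))
        simpa [commutatorElement_def, mul_assoc] using this
      have h2 : ⁅e, c⁆ ∈ Qd.W :=
        Qd.commutator_R_le_W hx hx1 (Subgroup.commutator_mem_commutator he hcV₁)
      have h3 := eq_one_of_oddOf (K := s.W3 V) s.hO le_rfl (R_le_W3 hx hx1 h1) (hKN ⟨h2, R_le_W3 hx hx1 h1⟩)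
      exact commutatorElement_eq_one_iff_commute.mp h3
    have hW3c : s.W3 V ≤ Subgroup.centralizer {c} :=
      iSup_le fun x e he => mem_cent.mpr (hcomm x x.2.1 x.2.2 e he)
    have hy1 : y = 1 := eq_one_of_inverted hyo hinv (mem_cent.mp (hW3c hy))
    subst hy1
    rw [one_mul, inv_one, mul_one, (hcomm w hwV hw1 q hq).eq, mul_inv_cancel_right] at hze
    rw [hze]
    exact hcV w hwV

end Setting

end CfsgLib.AfterFT.PairClosed
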