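import Cfsg.Agent.Lib.AfterFT.PairClosed.Involution
import Cfsg.Agent.Lib.PSolvable
import Cfsg.Agent.S1250

/-!
Goldschmidt's theorem on two commuting, disjoint strongly closed `2`-subgroups, given that groups of odd order
are solvable: their normal closures commute modulo `O(G)`.
-/

set_option autoImplicit false
set_option linter.unusedSectionVars false
set_option linter.style.haveILetI false

namespace CfsgLib.AfterFT.PairClosed

open Cfsg CfsgLib
open scoped commutatorElement

universe u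
variable {G : Type u} [Group G] [Finite G]

theorem closure_normal {T : Set G} (h : ∀ x ∈ T, ∀ g : G, g * x * g⁻¹ ∈ T) : (Subgroup.closure T).Normal := by
  refine Subgroup.normalizer_eq_top_iff.mp (top_le_iff.mp fun g _ => ?_)
  rw [Subgroup.mem_normalizer_iff_map_conj_eq, MonoidHom.map_closure]
  congr 1
  ext x
  constructor
  · rintro ⟨x', hx', rfl⟩; exact h x' hx' g
  · intro hx
    exact ⟨g⁻¹ * x * g, by simpa using h x hx g⁻¹, by show g * (g⁻¹ * x * g) * g⁻¹ = x; group⟩

/-- Two commutators: `a b a⁻¹ b⁻¹ = 1` means commuting. -/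
theorem commute_of_eq_one {a b : G} (h : a * b * a⁻¹ * b⁻¹ = 1) : Commute a b := by
  rw [mul_inv_eq_one, mul_inv_eq_iff_eq_mul] at h
  exact h

/-- A conjugation invariant `T ⊆ C₁` whose closure does not cover `G` with the Sylow subgroup commutes with
`C₂`. -/
theorem commute_of_proper (D : Pair G) (hO : oddCore G = ⊥) (ind : IndHyp G) {T : Set G} (hT : T ⊆ D.C₁)
    (hTc : ∀ x ∈ T, ∀ g : G, g * x * g⁻¹ ∈ T) (h : Subgroup.closure T ⊔ (D.P : Subgroup G) ≠ ⊤) :
    ∀ a ∈ T, ∀ b ∈ D.C₂, Commute a b := by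
  intro a ha b ⟨g, hg⟩
  haveI := closure_normal hTc
  have hga := hTc a ha g
  have hgaN : g * a * g⁻¹ ∈ Subgroup.closure T := Subgroup.subset_closure hga
  have h1 := ind_mem D ind h (hT hga) (Subgroup.mem_sup_left hgaN) (Pair.mem_C₂_of_mem hg)
    (Subgroup.mem_sup_right (D.sc₂.1 hg))
  have h2 : g * a * g⁻¹ * (g * b * g⁻¹) * (g * a * g⁻¹)⁻¹ * (g * b * g⁻¹)⁻¹ ∈ Subgroup.closure T := by
    have := (Subgroup.closure T).mul_mem hgaN
      (‹(Subgroup.closure T).Normal›.conj_mem _ ((Subgroup.closure T).inv_mem hgaN) (g * b * g⁻¹))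
    simpa [mul_assoc] using this
  have h3 := commute_of_eq_one (eq_one_of_oddOf hO le_sup_left h2 h1)
  have h4 := h3.map (MulAut.conj g⁻¹)
  simpa [mul_assoc] using h4

/-- The image of a pair in a quotient by a normal subgroup meeting the pair trivially. -/
theorem exists_quotient (D : Pair G) (N : Subgroup G) [N.Normal]
    (hN : ∀ x ∈ D.S₁, ∀ y ∈ D.S₂, y⁻¹ * x ∈ N → x ∈ N) :
    ∃ E : Pair (G ⧸ N), (∀ a ∈ D.C₁, QuotientGroup.mk' N a ∈ E.C₁) ∧
      (∀ b ∈ D.C₂, QuotientGroup.mk' N b ∈ E.C₂) := by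
  haveI : Fact (Nat.Prime 2) := ⟨Nat.prime_two⟩
  refine ⟨⟨D.P.mapSurjective (QuotientGroup.mk'_surjective N), D.S₁.map (QuotientGroup.mk' N),
    D.S₂.map (QuotientGroup.mk' N), Cfsg.Agent.S1250.result D.P D.S₁ D.sc₁ N,
    Cfsg.Agent.S1250.result D.P D.S₂ D.sc₂ N, ?_, ?_⟩, ?_, ?_⟩
  · rintro _ ⟨a, ha, rfl⟩ _ ⟨b, hb, rfl⟩
    rw [← map_mul, ← map_mul, D.comm a ha b hb]
  · rw [eq_bot_iff]
    rintro _ ⟨⟨x, hx, rfl⟩, ⟨y, hy, hxy⟩⟩
    rw [Subgroup.mem_bot, QuotientGroup.mk'_apply, QuotientGroup.eq_one_iff]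
    exact hN x hx y hy (QuotientGroup.eq.mp hxy)
  all_goals
    rintro a ⟨g, hg⟩
    refine ⟨QuotientGroup.mk' N g, ?_⟩
    rw [← map_inv, ← map_mul, ← map_mul]
    exact Subgroup.mem_map_of_mem _ hg

/-- The case of a nontrivial normal `2`-subgroup inside `S₁`. -/
theorem normal_case (D : Pair G) (hO : oddCore G = ⊥) (ind : IndHyp G) (Z : Subgroup G) [Z.Normal]
    (hZ : Z ≤ D.S₁) (hZ1 : Z ≠ ⊥) {a b : G} (ha : a ∈ D.C₁) (hb : b ∈ D.C₂) : Commute a b := by
  classical
  haveI : Fact (Nat.Prime 2) := ⟨Nat.prime_two⟩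
  obtain ⟨E, hE₁, hE₂⟩ := exists_quotient D Z (fun x hx y hy h => by
    have h1 : y ∈ D.S₁ ⊓ D.S₂ := by
      refine ⟨?_, hy⟩
      have : y = x * (y⁻¹ * x)⁻¹ := by group
      rw [this]
      exact D.S₁.mul_mem hx (D.S₁.inv_mem (hZ h))
    rw [D.disj, Subgroup.mem_bot] at h1
    subst h1
    simpa using h)
  set f := QuotientGroup.mk' Z with hf
  set X : Subgroup G := (oddCore (G ⧸ Z)).comap f with hX
  have hlt : Nat.card (G ⧸ Z) < Nat.card G := by
    rw [Subgroup.card_eq_card_quotient_mul_card_subgroup Z]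
    have h1 : 0 < Nat.card (G ⧸ Z) := Nat.card_pos
    have h2 : 1 < Nat.card Z := Subgroup.one_lt_card_iff_ne_bot Z |>.mpr hZ1
    exact lt_mul_of_one_lt_right h1 h2
  have hcX : ∀ a ∈ D.C₁, ∀ b ∈ D.C₂, a * b * a⁻¹ * b⁻¹ ∈ X := fun a ha b hb => by
    rw [hX, Subgroup.mem_comap, map_mul, map_mul, map_mul, map_inv, map_inv]
    exact ind _ hlt E _ (hE₁ a ha) _ (hE₂ b hb)
  have hZX : Z ≤ X := fun x hx => by
    rw [hX, Subgroup.mem_comap, show f x = 1 from (QuotientGroup.eq_one_iff x).mpr hx]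
    exact one_mem _
  haveI hXn : X.Normal := by rw [hX]; infer_instance
  set H : Subgroup G := X ⊔ (D.P : Subgroup G) with hH
  have hH2 : IsPGroup 2 (Z : Subgroup G) := D.P.2.to_le (hZ.trans D.sc₁.1)
  by_cases hHtop : H = ⊤
  swap
  · -- `a`, `b` commute modulo `X`, so lie in a conjugate of `X P`
    let π := QuotientGroup.mk' X
    have hab : Commute (π a) (π b) := by
      refine commute_of_eq_one ?_
      rw [← map_inv, ← map_inv, ← map_mul, ← map_mul, ← map_mul]
      exact (QuotientGroup.eq_one_iff _).mpr (hcX a ha b hb)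
    have hpow : ∀ {x : G}, IsPGroup 2 (Subgroup.zpowers x) → IsPGroup 2 (Subgroup.zpowers (π x)) := fun h => by
      rw [← MonoidHom.map_zpowers]; exact h.map π
    have hT : IsPGroup 2 (Subgroup.zpowers (π a) ⊔ Subgroup.zpowers (π b) : Subgroup (G ⧸ X)) :=
      IsPGroup.to_sup_of_normal_right' (hpow (Pair.isPGroup_zpowers ha))
        (hpow (Pair.isPGroup_zpowers (D := D.swap) hb))
        (Subgroup.zpowers_le.mpr (mem_normalizer_zpowers hab))
    obtain ⟨P', hP'⟩ := hT.exists_le_sylow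
    obtain ⟨k', hk⟩ := MulAction.exists_smul_eq (G ⧸ X) P' (D.P.mapSurjective (QuotientGroup.mk'_surjective X))
    obtain ⟨k, rfl⟩ := QuotientGroup.mk'_surjective X k'
    have hmem : ∀ x : G, π x ∈ (P' : Subgroup (G ⧸ X)) → k * x * k⁻¹ ∈ H := fun x hx => by
      have h1 : π (k * x * k⁻¹) ∈ ((D.P.mapSurjective (QuotientGroup.mk'_surjective X) : Sylow 2 (G ⧸ X)) :
          Subgroup (G ⧸ X)) := by
        rw [← hk, Sylow.coe_subgroup_smul, Subgroup.mem_pointwise_smul_iff_inv_smul_mem, map_mul, map_mul, map_inv]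
        simpa [π, mul_assoc] using hx
      have h2 : k * x * k⁻¹ ∈ ((D.P : Subgroup G).map π).comap π := h1
      rw [Subgroup.comap_map_eq, QuotientGroup.ker_mk', sup_comm] at h2
      exact h2
    have h1 := ind_mem D ind hHtop (Pair.conj_mem_C₁ ha k) (hmem a (hP' (Subgroup.mem_sup_left
      (Subgroup.mem_zpowers _)))) (Pair.conj_mem_C₂ hb k) (hmem b (hP' (Subgroup.mem_sup_right
      (Subgroup.mem_zpowers _))))
    have h2 := eq_one_of_oddOf hO le_sup_left (hcX _ (Pair.conj_mem_C₁ ha k) _ (Pair.conj_mem_C₂ hb k)) h1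
    have h3 := (commute_of_eq_one h2).map (MulAut.conj k⁻¹)
    simpa [mul_assoc] using h3
  · -- `G = X P`: then `S₂` is normal
    set C := Subgroup.centralizer (Z : Set G) with hC
    haveI : C.Normal := by rw [hC]; infer_instance
    set K : Subgroup G := X ⊓ C with hK
    have hKZ : K ≤ Z := by
      haveI : (Z.subgroupOf K).Normal := inferInstance
      have hcardZ : ∃ n, Nat.card Z = 2 ^ n := IsPGroup.iff_card.mp hH2
      have hodd : Odd ((Z ⊓ K).relIndex K) := by
        have h1 : Odd (Z.relIndex X) := by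
          have h2 : Z.relIndex X = Nat.card (oddCore (G ⧸ Z)) := by
            have h3 : Z = (⊥ : Subgroup (G ⧸ Z)).comap f := by
              rw [MonoidHom.comap_bot, hf, QuotientGroup.ker_mk']
            conv_lhs => rw [h3, hX, Subgroup.relIndex_comap]
            rw [Subgroup.map_comap_eq_self_of_surjective (QuotientGroup.mk'_surjective Z),
              Subgroup.relIndex_bot_left]
          rw [h2]; exact odd_card_oddCore
        rw [Subgroup.inf_relIndex_right]
        refine h1.of_dvd_nat ?_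
        haveI : (Z.subgroupOf X).Normal := inferInstance
        have := Subgroup.relIndex_dvd_index_of_normal (H := Z.subgroupOf X) (K := K.subgroupOf X)
        rwa [Subgroup.relIndex_subgroupOf (show K ≤ X from inf_le_left)] at this
      have hindex : (Z.subgroupOf K).index = (Z ⊓ K).relIndex K := by
        rw [Subgroup.inf_relIndex_right]; rfl
      obtain ⟨n, hn⟩ := hcardZ
      have hcop : (Nat.card (Z.subgroupOf K)).Coprime (Z.subgroupOf K).index := by
        have hd : Nat.card (Z.subgroupOf K) ∣ 2 ^ n := by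
          rw [← hn]
          exact Subgroup.card_comap_dvd_of_injective Z K.subtype K.subtype_injective
        rw [hindex]
        exact ((Nat.coprime_two_left.mpr hodd).pow_left n).coprime_dvd_left hd
      obtain ⟨J, hJ⟩ := Subgroup.exists_right_complement'_of_coprime hcop
      have hJc : Nat.card J = (Z.subgroupOf K).index := hJ.symm.index_eq_card.symm
      haveI : J.Normal := by
        refine ⟨fun j hj k => ?_⟩
        obtain ⟨⟨⟨z, hz⟩, ⟨j', hj'⟩⟩, rfl, -⟩ := hJ.existsUnique k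
        have hzc : ∀ y : K, Commute z y := fun y => Subtype.ext (y.2.2 (z : G) (Subgroup.mem_subgroupOf.mp hz))
        show z * j' * j * (z * j')⁻¹ ∈ J
        have e : z * j' * j * (z * j')⁻¹ = j' * j * j'⁻¹ := by
          calc z * j' * j * (z * j')⁻¹ = z * (j' * j * j'⁻¹) * z⁻¹ := by group
            _ = _ := by rw [(hzc _).eq, mul_inv_cancel_right]
        rw [e]
        exact J.mul_mem (J.mul_mem hj' hj) (J.inv_mem hj')
      have hJbot : J = ⊥ := by
        refine (Subgroup.eq_bot_iff_forall _).mpr fun j hj => Subtype.ext ?_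
        haveI : K.Normal := by rw [hK]; infer_instance
        refine eq_one_of_oddOf hO (le_refl K) j.2 ⟨j, ?_, rfl⟩
        exact le_oddCore (by rw [hJc, hindex]; exact hodd) hj
      have := hJ.isCompl.sup_eq_top
      rw [hJbot, sup_bot_eq] at this
      exact fun x hx => Subgroup.mem_subgroupOf.mp (show (⟨x, hx⟩ : K) ∈ Z.subgroupOf K by rw [this]; trivial)
    have hS₂C : D.S₂ ≤ C := fun t ht z hz => D.comm z (hZ hz) t ht
    have hXS : X ≤ Subgroup.normalizer (D.S₂ : Set G) := by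
      have key : ∀ x ∈ X, ∀ t ∈ D.S₂, x * t * x⁻¹ ∈ D.S₂ := by
        intro x hx t ht
        have h1 : x * t * x⁻¹ * t⁻¹ ∈ K := by
          refine ⟨?_, C.mul_mem (‹C.Normal›.conj_mem t (hS₂C ht) x) (C.inv_mem (hS₂C ht))⟩
          have := X.mul_mem hx (hXn.conj_mem _ (X.inv_mem hx) t)
          simpa [mul_assoc] using this
        have h2 : x * t * x⁻¹ ∈ (D.P : Subgroup G) := by
          have := (D.P : Subgroup G).mul_mem (D.sc₁.1 (hZ (hKZ h1))) (D.sc₂.1 ht)
          simpa [mul_assoc] using this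
        exact Pair.mem_S₂_of_mem (Pair.mem_C₂_of_mem ht) h2
      intro x hx
      refine Subgroup.mem_normalizer_iff.mpr fun t => ⟨key x hx t, fun h => ?_⟩
      simpa [mul_assoc] using key x⁻¹ (X.inv_mem hx) _ h
    have hPS : (D.P : Subgroup G) ≤ Subgroup.normalizer (D.S₂ : Set G) := fun p hp =>
      Subgroup.mem_normalizer_iff.mpr fun t => ⟨fun h => Pair.conj_S₁ (D := D.swap) hp h, fun h => by
        simpa [Pair.swap, mul_assoc] using Pair.conj_S₁ (D := D.swap) ((D.P : Subgroup G).inv_mem hp) h⟩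
    haveI hS₂n : D.S₂.Normal :=
      Subgroup.normalizer_eq_top_iff.mp (top_le_iff.mp (hHtop ▸ sup_le hXS hPS))
    obtain ⟨g, hg⟩ := ha
    obtain ⟨k, hk⟩ := hb
    have hbS : b ∈ D.S₂ := by simpa [mul_assoc] using hS₂n.conj_mem _ hk k⁻¹
    have h3 := (show Commute (g * a * g⁻¹) (g * b * g⁻¹) from D.comm _ hg _ (hS₂n.conj_mem b hbS g)).map
      (MulAut.conj g⁻¹)
    simpa [mul_assoc] using h3

/-- A normal `M` with `M P = G` cannot centralise the involutions of the first kind. -/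
theorem Setting.no_centralizing (s : Setting G) (M : Subgroup G) [M.Normal]
    (hM : M ⊔ (s.D.P : Subgroup G) = ⊤) (hc : ∀ m ∈ M, ∀ z ∈ s.D.I₁, Commute z m) : s.D.S₁ = ⊥ := by
  classical
  haveI : Fact (Nat.Prime 2) := ⟨Nat.prime_two⟩
  by_contra hne
  set N := Subgroup.closure s.D.I₁ with hN
  haveI : N.Normal := closure_normal fun x hx g => Pair.conj_mem_I₁ hx g
  have hNM : ∀ n ∈ N, ∀ m ∈ M, Commute n m := fun n hn m hm => by
    induction hn using Subgroup.closure_induction with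
    | mem x hx => exact hc m hm x hx
    | one => exact Commute.one_left m
    | mul x y _ _ hx hy => exact hx.mul_left hy
    | inv x _ hx => exact hx.inv_left
  let f : N →* G ⧸ M := (QuotientGroup.mk' M).comp N.subtype
  have hker : f.ker ≤ Subgroup.center N := fun n hn => Subgroup.mem_center_iff.mpr fun x => Subtype.ext
    (hNM x x.2 n ((QuotientGroup.eq_one_iff _).mp hn)).eq
  have hQ : IsPGroup 2 (G ⧸ M) := by
    have h1 : (s.D.P : Subgroup G).map (QuotientGroup.mk' M) = ⊤ := by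
      rw [← Subgroup.map_top_of_surjective _ (QuotientGroup.mk'_surjective M), ← hM, Subgroup.map_sup,
        QuotientGroup.map_mk'_self, bot_sup_eq]
    have h2 := s.D.P.2.map (QuotientGroup.mk' M)
    rw [h1] at h2
    exact h2.of_equiv Subgroup.topEquiv
  have hnil : Group.IsNilpotent N := by
    haveI : Group.IsNilpotent f.range := (hQ.to_subgroup f.range).isNilpotent
    exact Subgroup.isNilpotent_of_ker_le_center f.rangeRestrict (by rw [MonoidHom.ker_rangeRestrict]; exact hker)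
  -- an involution of `S₁` lies in `O₂(G)`
  obtain ⟨z, hzS, hz1, hz2⟩ : ∃ z ∈ s.D.S₁, z ≠ 1 ∧ z * z = 1 := by
    haveI : Nontrivial s.D.S₁ := (Subgroup.nontrivial_iff_ne_bot _).mpr hne
    have hS : IsPGroup 2 s.D.S₁ := s.D.P.2.to_le s.D.sc₁.1
    obtain ⟨n, hn, hcard⟩ := hS.nontrivial_iff_card.mp inferInstance
    obtain ⟨c, hc⟩ := exists_prime_orderOf_dvd_card' (G := s.D.S₁) 2 (by rw [hcard]; exact dvd_pow_self 2 hn.ne')
    obtain ⟨h1, h2⟩ := Involutions.orderOf_eq_two_iff'.mp hc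
    exact ⟨c, c.2, fun e => h2 (Subtype.ext e), congrArg Subtype.val h1⟩
  have hzI : z ∈ s.D.I₁ := ⟨Pair.mem_C₁_of_mem hzS, hz2⟩
  have hz2' : IsPGroup 2 (Subgroup.zpowers (⟨z, Subgroup.subset_closure hzI⟩ : N)) :=
    isPGroup_zpowers_two (Subtype.ext hz2)
  obtain ⟨Q, hQz⟩ := hz2'.exists_le_sylow
  have hsyl : ∀ (p : ℕ) (_ : Fact p.Prime) (P : Sylow p N), (P : Subgroup N).Normal :=
    ((Group.isNilpotent_of_finite_tfae (G := N)).out 0 3).mp hnil
  haveI := hsyl 2 inferInstance Q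
  have hzO : z ∈ pCore 2 G :=
    map_pCore_le 2 N ⟨_, le_pCore Q.2 (hQz (Subgroup.mem_zpowers _)), rfl⟩
  set Z := pCore 2 G ⊓ s.D.S₁ with hZ
  have hZn : Z.Normal := ⟨fun x hx g => ⟨(show (pCore 2 G).Normal from inferInstance).conj_mem x hx.1 g,
    s.D.sc₁.2 x hx.2 g (pCore_le_sylow s.D.P ((show (pCore 2 G).Normal from inferInstance).conj_mem x hx.1 g))⟩⟩
  have := s.noNorm₁ Z hZn inf_le_right
  have hz : z ∈ Z := ⟨hzO, hzS⟩
  rw [this, Subgroup.mem_bot] at hz
  exact hz1 hz

theorem Setting.commute_C (s : Setting G) {a b : G} (ha : a ∈ s.D.C₁) (hb : b ∈ s.D.C₂) : Commute a b := by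
  classical
  by_cases h1 : Subgroup.closure s.D.C₁ ⊔ (s.D.P : Subgroup G) ≠ ⊤
  · exact commute_of_proper s.D s.hO s.ind subset_rfl (fun x hx g => Pair.conj_mem_C₁ hx g) h1 a ha b hb
  by_cases h2 : Subgroup.closure s.D.C₂ ⊔ (s.D.P : Subgroup G) ≠ ⊤
  · exact (commute_of_proper s.swap.D s.hO s.swap.ind (T := s.D.C₂) subset_rfl
      (fun x hx g => Pair.conj_mem_C₂ hx g) h2 b hb a ha).symm
  push Not at h1 h2
  have hbot : ∀ {S : Subgroup G}, S = ⊥ → ∀ {x g : G}, g * x * g⁻¹ ∈ S → x = 1 := fun hS x g h => by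
    rw [hS, Subgroup.mem_bot] at h; simpa using h
  obtain ⟨g, hg⟩ := ha
  obtain ⟨k, hk⟩ := hb
  by_cases hN1 : Subgroup.closure s.D.I₁ ⊔ (s.D.P : Subgroup G) ≠ ⊤
  · have hc := commute_of_proper s.D s.hO s.ind (fun x hx => hx.1) (fun x hx g => Pair.conj_mem_I₁ hx g) hN1
    haveI := closure_normal (T := s.D.C₂) fun x hx g => Pair.conj_mem_C₂ hx g
    have h := s.no_centralizing (Subgroup.closure s.D.C₂) h2 fun m hm z hz => by
      induction hm using Subgroup.closure_induction with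
      | mem x hx => exact hc z hz x hx
      | one => exact Commute.one_right z
      | mul x y _ _ hx hy => exact hx.mul_right hy
      | inv x _ hx => exact hx.inv_right
    rw [hbot h hg]
    exact Commute.one_left b
  · push Not at hN1
    haveI := closure_normal (T := s.D.I₁) fun x hx g => Pair.conj_mem_I₁ hx g
    have h := s.swap.no_centralizing (Subgroup.closure s.D.I₁) hN1 fun m hm w hw => by
      induction hm using Subgroup.closure_induction with
      | mem x hx => exact (s.commute_involutions hx hw).symm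
      | one => exact Commute.one_right w
      | mul x y _ _ hx hy => exact hx.mul_right hy
      | inv x _ hx => exact hx.inv_right
    rw [hbot (S := s.D.S₂) h hk]
    exact Commute.one_right a

theorem pair_main (odd : ∀ (H : Type u) [Group H] [Finite H], Odd (Nat.card H) → Group.IsSolvable H) :
    ∀ (n : ℕ) (G : Type u) [Group G] [Finite G], Nat.card G = n → ∀ D : Pair G, ∀ a ∈ D.C₁, ∀ b ∈ D.C₂,
      a * b * a⁻¹ * b⁻¹ ∈ oddCore G := by
  intro n
  induction n using Nat.strong_induction_on with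
  | _ n ih =>
    intro G _ _ hn D a ha b hb
    have ind : IndHyp G := fun H _ _ h E => ih _ (hn ▸ h) H rfl E
    by_cases hO : oddCore G = ⊥
    · have key : Commute a b → a * b * a⁻¹ * b⁻¹ ∈ oddCore G := fun h => by
        rw [h.eq, mul_inv_cancel_right, mul_inv_cancel]; exact one_mem _
      refine key ?_
      by_cases h1 : ∃ Z : Subgroup G, Z.Normal ∧ Z ≤ D.S₁ ∧ Z ≠ ⊥
      · obtain ⟨Z, hZn, hZ, hZ1⟩ := h1
        exact normal_case D hO ind Z hZ hZ1 ha hb
      by_cases h2 : ∃ Z : Subgroup G, Z.Normal ∧ Z ≤ D.S₂ ∧ Z ≠ ⊥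
      · obtain ⟨Z, hZn, hZ, hZ1⟩ := h2
        refine (normal_case D.swap hO ?_ Z hZ hZ1 hb ha).symm
        exact ind
      push Not at h1 h2
      exact Setting.commute_C ⟨D, odd, hO, ind, h1, h2⟩ ha hb
    · haveI : Fact (Nat.Prime 2) := ⟨Nat.prime_two⟩
      obtain ⟨E, hE₁, hE₂⟩ := exists_quotient D (oddCore G) fun x hx y hy h => by
        have hP : y⁻¹ * x ∈ (D.P : Subgroup G) :=
          (D.P : Subgroup G).mul_mem ((D.P : Subgroup G).inv_mem (D.sc₂.1 hy)) (D.sc₁.1 hx)
        have h1 : y⁻¹ * x = 1 := Subgroup.disjoint_def.mp (Subgroup.disjoint_of_coprime_natCard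
          (coprime_two D.P.2 odd_card_oddCore)) hP h
        have h2 : x ∈ D.S₁ ⊓ D.S₂ := ⟨hx, by rw [inv_mul_eq_one] at h1; exact h1 ▸ hy⟩
        rw [D.disj, Subgroup.mem_bot] at h2
        rw [h2]; exact one_mem _
      have hlt : Nat.card (G ⧸ oddCore G) < n := by
        rw [← hn, Subgroup.card_eq_card_quotient_mul_card_subgroup (oddCore G)]
        exact lt_mul_of_one_lt_right Nat.card_pos (Subgroup.one_lt_card_iff_ne_bot _ |>.mpr hO)
      have h := ih _ hlt (G ⧸ oddCore G) rfl E _ (hE₁ a ha) _ (hE₂ b hb)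
      rw [show oddCore (G ⧸ oddCore G) = ⊥ from pPrimeCore_quotient_eq_bot 2, ← map_inv, ← map_inv, ← map_mul,
        ← map_mul, ← map_mul, Subgroup.mem_bot, QuotientGroup.mk'_apply, QuotientGroup.eq_one_iff] at h
      exact h

/-- **Goldschmidt**: the normal closures of commuting, disjoint strongly closed subgroups commute modulo
`O(G)`. -/
theorem commutator_normalClosure_le
    (odd : ∀ (H : Type u) [Group H] [Finite H], Odd (Nat.card H) → Group.IsSolvable H)
    (P : Sylow 2 G) (S₁ S₂ : Subgroup G) (h₁ : IsStronglyClosed S₁ (P : Subgroup G))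
    (h₂ : IsStronglyClosed S₂ (P : Subgroup G)) (hc : ∀ a ∈ S₁, ∀ b ∈ S₂, a * b = b * a) (hd : S₁ ⊓ S₂ = ⊥) :
    ⁅Subgroup.normalClosure (S₁ : Set G), Subgroup.normalClosure (S₂ : Set G)⁆ ≤ oddCore G := by
  let D : Pair G := ⟨P, S₁, S₂, h₁, h₂, hc, hd⟩
  have hOn : (oddCore G).Normal := inferInstance
  let π := QuotientGroup.mk' (oddCore G)
  have hconj : ∀ (S : Subgroup G) (x : G), x ∈ Group.conjugatesOfSet (S : Set G) →
      ∃ g : G, g * x * g⁻¹ ∈ S := fun S x hx => by
    obtain ⟨s, hs, hsx⟩ := Group.mem_conjugatesOfSet_iff.mp hx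
    obtain ⟨c, rfl⟩ := isConj_iff.mp hsx
    exact ⟨c⁻¹, by simpa [mul_assoc] using hs⟩
  have h : ⁅(Subgroup.normalClosure (S₁ : Set G)).map π, (Subgroup.normalClosure (S₂ : Set G)).map π⁆ = ⊥ := by
    rw [Subgroup.commutator_eq_bot_iff_le_centralizer, Subgroup.normalClosure, Subgroup.normalClosure,
      MonoidHom.map_closure, MonoidHom.map_closure, Subgroup.centralizer_closure, Subgroup.closure_le]
    rintro _ ⟨x, hx, rfl⟩ _ ⟨y, hy, rfl⟩
    have := pair_main odd _ G rfl D x (hconj S₁ x hx) y (hconj S₂ y hy)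
    rw [← QuotientGroup.eq_one_iff, QuotientGroup.mk_mul, QuotientGroup.mk_mul, QuotientGroup.mk_mul,
      QuotientGroup.mk_inv, QuotientGroup.mk_inv] at this
    exact (commute_of_eq_one this).symm.eq
  rwa [← Subgroup.map_commutator, Subgroup.map_eq_bot_iff, QuotientGroup.ker_mk'] at h

end CfsgLib.AfterFT.PairClosed
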