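import Cfsg.Prelude.Def_TwoFusion
import Cfsg.Agent.Lib.AfterFT.PairClosed.Cores
import Cfsg.Agent.Lib.ZStar.Main

/-!
Two commuting, disjoint strongly closed subgroups of a Sylow `2`-subgroup: the elements conjugate into each,
heredity to subgroups, and the dihedral lemma.
-/

set_option autoImplicit false
set_option linter.unusedSectionVars false
set_option linter.style.haveILetI false

namespace CfsgLib.AfterFT.PairClosed

open Cfsg

universe u
variable {G : Type u} [Group G]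

/-- A pair of commuting, disjoint, strongly closed subgroups of a Sylow `2`-subgroup. -/
structure Pair (G : Type u) [Group G] where
  P : Sylow 2 G
  S₁ : Subgroup G
  S₂ : Subgroup G
  sc₁ : IsStronglyClosed S₁ (P : Subgroup G)
  sc₂ : IsStronglyClosed S₂ (P : Subgroup G)
  comm : ∀ a ∈ S₁, ∀ b ∈ S₂, a * b = b * a
  disj : S₁ ⊓ S₂ = ⊥

namespace Pair

variable (D : Pair G)

/-- The pair with the two members exchanged. -/
def swap : Pair G where
  P := D.P
  S₁ := D.S₂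
  S₂ := D.S₁
  sc₁ := D.sc₂
  sc₂ := D.sc₁
  comm := fun a ha b hb => (D.comm b hb a ha).symm
  disj := by rw [inf_comm]; exact D.disj

/-- The elements conjugate into `S₁`. -/
def C₁ : Set G := {x | ∃ g : G, g * x * g⁻¹ ∈ D.S₁}

/-- The elements conjugate into `S₂`. -/
def C₂ : Set G := {x | ∃ g : G, g * x * g⁻¹ ∈ D.S₂}

/-- The involutions conjugate into `S₁`, and `1`. -/
def I₁ : Set G := {x | x ∈ D.C₁ ∧ x * x = 1}

/-- The involutions conjugate into `S₂`, and `1`. -/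
def I₂ : Set G := {x | x ∈ D.C₂ ∧ x * x = 1}

theorem swap_C₁ : D.swap.C₁ = D.C₂ := rfl

theorem swap_C₂ : D.swap.C₂ = D.C₁ := rfl

variable {D}

theorem conj_mem_C₁ {x : G} (hx : x ∈ D.C₁) (g : G) : g * x * g⁻¹ ∈ D.C₁ := by
  obtain ⟨k, hk⟩ := hx
  exact ⟨k * g⁻¹, by simpa [mul_assoc] using hk⟩

theorem conj_mem_I₁ {x : G} (hx : x ∈ D.I₁) (g : G) : g * x * g⁻¹ ∈ D.I₁ :=
  ⟨conj_mem_C₁ hx.1 g, by
    calc g * x * g⁻¹ * (g * x * g⁻¹) = g * (x * x) * g⁻¹ := by group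
      _ = 1 := by rw [hx.2, mul_one, mul_inv_cancel]⟩

theorem conj_mem_C₂ {x : G} (hx : x ∈ D.C₂) (g : G) : g * x * g⁻¹ ∈ D.C₂ := conj_mem_C₁ (D := D.swap) hx g

theorem conj_mem_I₂ {x : G} (hx : x ∈ D.I₂) (g : G) : g * x * g⁻¹ ∈ D.I₂ := conj_mem_I₁ (D := D.swap) hx g

theorem mem_C₁_of_mem {x : G} (hx : x ∈ D.S₁) : x ∈ D.C₁ := ⟨1, by simpa using hx⟩

theorem mem_C₂_of_mem {x : G} (hx : x ∈ D.S₂) : x ∈ D.C₂ := mem_C₁_of_mem (D := D.swap) hx

theorem one_mem_I₁ : (1 : G) ∈ D.I₁ := ⟨mem_C₁_of_mem (one_mem _), one_mul 1⟩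

/-- A conjugate of an element of `C₁` lying in the Sylow subgroup lies in `S₁`. -/
theorem mem_S₁_of_mem {x k : G} (hx : x ∈ D.C₁) (hk : k * x * k⁻¹ ∈ (D.P : Subgroup G)) :
    k * x * k⁻¹ ∈ D.S₁ := by
  obtain ⟨g, hg⟩ := hx
  have e : k * g⁻¹ * (g * x * g⁻¹) * (k * g⁻¹)⁻¹ = k * x * k⁻¹ := by group
  have := D.sc₁.2 _ hg (k * g⁻¹) (by rwa [e])
  rwa [e] at this

theorem mem_S₂_of_mem {x k : G} (hx : x ∈ D.C₂) (hk : k * x * k⁻¹ ∈ (D.P : Subgroup G)) :
    k * x * k⁻¹ ∈ D.S₂ := mem_S₁_of_mem (D := D.swap) hx hk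

theorem conj_S₁ {p s : G} (hp : p ∈ (D.P : Subgroup G)) (hs : s ∈ D.S₁) : p * s * p⁻¹ ∈ D.S₁ :=
  mem_S₁_of_mem (mem_C₁_of_mem hs) ((D.P : Subgroup G).mul_mem ((D.P : Subgroup G).mul_mem hp (D.sc₁.1 hs))
    ((D.P : Subgroup G).inv_mem hp))

theorem isPGroup_zpowers {x : G} (hx : x ∈ D.C₁) : IsPGroup 2 (Subgroup.zpowers x) := by
  obtain ⟨g, hg⟩ := hx
  have h : IsPGroup 2 ((Subgroup.zpowers x).map ((MulAut.conj g : G ≃* G) : G →* G)) := by
    refine D.P.2.to_le ?_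
    rw [MonoidHom.map_zpowers, Subgroup.zpowers_le]
    exact D.sc₁.1 hg
  exact h.of_equiv (Subgroup.equivMapOfInjective _ _ (MulAut.conj g).injective).symm

theorem commute_of_mem_sylow {a b k : G} (ha : a ∈ D.C₁) (hb : b ∈ D.C₂)
    (hka : k * a * k⁻¹ ∈ (D.P : Subgroup G)) (hkb : k * b * k⁻¹ ∈ (D.P : Subgroup G)) : Commute a b := by
  have h := D.comm _ (mem_S₁_of_mem ha hka) _ (mem_S₂_of_mem hb hkb)
  show a * b = b * a
  calc a * b = k⁻¹ * (k * a * k⁻¹ * (k * b * k⁻¹)) * k := by group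
    _ = k⁻¹ * (k * b * k⁻¹ * (k * a * k⁻¹)) * k := by rw [h]
    _ = b * a := by group

section Finite

variable [Finite G]

theorem exists_conj_le {Q : Subgroup G} (hQ : IsPGroup 2 Q) (D : Pair G) :
    ∃ k : G, ∀ x ∈ Q, k * x * k⁻¹ ∈ (D.P : Subgroup G) := by
  obtain ⟨P', hP'⟩ := hQ.exists_le_sylow
  obtain ⟨k, hk⟩ := MulAction.exists_smul_eq G P' D.P
  refine ⟨k, fun x hx => ?_⟩
  rw [← hk, Sylow.coe_subgroup_smul, Subgroup.mem_pointwise_smul_iff_inv_smul_mem]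
  simpa [mul_assoc] using hP' hx

theorem exists_conj_mem {x : G} (hx : x ∈ D.C₁) : ∃ k : G, k * x * k⁻¹ ∈ (D.P : Subgroup G) :=
  hx.imp fun _ hg => D.sc₁.1 hg

theorem eq_one_of_mem_both {x : G} (h₁ : x ∈ D.C₁) (h₂ : x ∈ D.C₂) : x = 1 := by
  obtain ⟨k, hk⟩ := exists_conj_mem h₁
  have h : k * x * k⁻¹ ∈ D.S₁ ⊓ D.S₂ := ⟨mem_S₁_of_mem h₁ hk, mem_S₂_of_mem h₂ hk⟩
  rw [D.disj, Subgroup.mem_bot] at h
  simpa using h

/-- The pair induced on a subgroup. -/
theorem exists_sub (D : Pair G) (H : Subgroup G) :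
    ∃ E : Pair ↥H, (∀ x : H, (x : G) ∈ D.C₁ → x ∈ E.C₁) ∧ (∀ x : H, (x : G) ∈ D.C₂ → x ∈ E.C₂) := by
  obtain ⟨P₀⟩ := (Sylow.nonempty : Nonempty (Sylow 2 H))
  obtain ⟨k, hk⟩ := exists_conj_le (P₀.2.map H.subtype) D
  have hk' : ∀ x : H, x ∈ (P₀ : Subgroup H) → k * (x : G) * k⁻¹ ∈ (D.P : Subgroup G) :=
    fun x hx => hk _ (Subgroup.mem_map_of_mem _ hx)
  let f : H →* G := ((MulAut.conj k : G ≃* G) : G →* G).comp H.subtype
  have hf : ∀ x : H, f x = k * (x : G) * k⁻¹ := fun x => rfl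
  have hsc : ∀ (S : Subgroup G), (∀ (x g : G), x ∈ S → g * x * g⁻¹ ∈ (D.P : Subgroup G) → g * x * g⁻¹ ∈ S) →
      IsStronglyClosed (S.comap f ⊓ (P₀ : Subgroup H)) (P₀ : Subgroup H) := fun S hS => by
    refine ⟨inf_le_right, fun x hx g hg => ⟨?_, hg⟩⟩
    have h := hS _ (k * (g : G) * k⁻¹) (Subgroup.mem_comap.mp hx.1)
    rw [hf] at h
    apply Subgroup.mem_comap.mpr
    rw [hf]
    have e : k * (g : G) * k⁻¹ * (k * (x : G) * k⁻¹) * (k * (g : G) * k⁻¹)⁻¹ = k * ((g * x * g⁻¹ : H) : G) * k⁻¹ := by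
      push_cast; group
    rw [e] at h
    exact h (hk' _ hg)
  refine ⟨⟨P₀, D.S₁.comap f ⊓ P₀, D.S₂.comap f ⊓ P₀, hsc _ (fun x g hx hg => D.sc₁.2 x hx g hg),
    hsc _ (fun x g hx hg => D.sc₂.2 x hx g hg), ?_, ?_⟩, ?_, ?_⟩
  · intro a ha b hb
    have := D.comm _ ha.1 _ hb.1
    rw [← map_mul, ← map_mul] at this
    rw [hf, hf] at this
    push_cast at this
    exact Subtype.ext (mul_left_cancel (mul_right_cancel this))
  · rw [eq_bot_iff]
    intro x hx
    have h : f x ∈ D.S₁ ⊓ D.S₂ := ⟨hx.1.1, hx.2.1⟩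
    rw [D.disj, Subgroup.mem_bot, hf] at h
    exact Subgroup.mem_bot.mpr (Subtype.ext (by simpa using h))
  all_goals
    intro x hx
    have hp : IsPGroup 2 (Subgroup.zpowers x) := by
      have h : IsPGroup 2 ((Subgroup.zpowers x).map H.subtype) := by
        rw [MonoidHom.map_zpowers]
        first
          | exact isPGroup_zpowers hx
          | exact isPGroup_zpowers (D := D.swap) hx
      exact h.of_equiv (Subgroup.equivMapOfInjective _ _ H.subtype_injective).symm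
    obtain ⟨P₁, hP₁⟩ := hp.exists_le_sylow
    obtain ⟨h, hh⟩ := MulAction.exists_smul_eq H P₁ P₀
    have hx₀ : h * x * h⁻¹ ∈ (P₀ : Subgroup H) := by
      rw [← hh, Sylow.coe_subgroup_smul, Subgroup.mem_pointwise_smul_iff_inv_smul_mem]
      simpa [mul_assoc] using hP₁ (Subgroup.mem_zpowers x)
    refine ⟨h, ?_, hx₀⟩
    apply Subgroup.mem_comap.mpr
    have e : f (h * x * h⁻¹) = k * (h : G) * (x : G) * (k * (h : G))⁻¹ := by rw [hf]; push_cast; group
    rw [e]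
    first
      | exact mem_S₁_of_mem hx (e ▸ hk' _ hx₀)
      | exact mem_S₂_of_mem hx (e ▸ hk' _ hx₀)

end Finite

end Pair

/-- The induction hypothesis: the theorem in all smaller groups. -/
def IndHyp (G : Type u) [Group G] : Prop :=
  ∀ (H : Type u) [Group H] [Finite H], Nat.card H < Nat.card G → ∀ E : Pair H, ∀ a ∈ E.C₁, ∀ b ∈ E.C₂,
    a * b * a⁻¹ * b⁻¹ ∈ oddCore H

/-- A minimal counterexample setting. -/
structure Setting (G : Type u) [Group G] where
  D : Pair G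
  odd : ∀ (H : Type u) [Group H] [Finite H], Odd (Nat.card H) → Group.IsSolvable H
  hO : oddCore G = ⊥
  ind : IndHyp G
  noNorm₁ : ∀ Z : Subgroup G, Z.Normal → Z ≤ D.S₁ → Z = ⊥
  noNorm₂ : ∀ Z : Subgroup G, Z.Normal → Z ≤ D.S₂ → Z = ⊥

/-- Commutators in the induction hypothesis, inside a proper subgroup. -/
theorem ind_mem [Finite G] (D : Pair G) (ind : IndHyp G) {H : Subgroup G} (hH : H ≠ ⊤) {a b : G}
    (ha : a ∈ D.C₁) (haH : a ∈ H) (hb : b ∈ D.C₂) (hbH : b ∈ H) : a * b * a⁻¹ * b⁻¹ ∈ oddOf H := by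
  obtain ⟨E, hE₁, hE₂⟩ := D.exists_sub H
  have hlt : Nat.card H < Nat.card G := (Subgroup.card_le_card_group H).lt_of_ne
    fun h => hH (Subgroup.card_eq_iff_eq_top H |>.mp h)
  exact ⟨_, ind H hlt E ⟨a, haH⟩ (hE₁ _ ha) ⟨b, hbH⟩ (hE₂ _ hb), rfl⟩

/-- An element of `O(H)` lying in a normal subgroup of `G` contained in `H` is trivial. -/
theorem eq_one_of_oddOf [Finite G] (hO : oddCore G = ⊥) {H K : Subgroup G} [K.Normal] (hKH : K ≤ H) {x : G}
    (hxK : x ∈ K) (hx : x ∈ oddOf H) : x = 1 := by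
  have hKn : ∀ L : Subgroup G, L ≤ Subgroup.normalizer (K : Set G) := fun L => by
    rw [Subgroup.normalizer_eq_top_iff.mpr ‹K.Normal›]; exact le_top
  have h1 : oddOf H ⊓ K ≤ oddOf K := le_oddOf inf_le_right
    (fun k hk => Subgroup.mem_normalizer_iff.mpr fun z => by
      rw [Subgroup.mem_inf, Subgroup.mem_inf, Subgroup.mem_normalizer_iff.mp (le_normalizer_oddOf H (hKH hk)) z,
        Subgroup.mem_normalizer_iff.mp (Subgroup.le_normalizer hk) z])
    (by
      have := odd_oddOf H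
      exact this.of_dvd_nat (Subgroup.card_dvd_of_le inf_le_left))
  have h2 : oddOf K ≤ oddOf ⊤ := oddOf_mono_normal le_top (hKn ⊤)
  have h3 : oddOf (⊤ : Subgroup G) ≤ oddCore G := by
    haveI : (oddOf (⊤ : Subgroup G)).Normal :=
      Subgroup.normalizer_eq_top_iff.mp (top_le_iff.mp (le_normalizer_oddOf ⊤))
    exact le_oddCore (odd_oddOf _)
  have := h3 (h2 (h1 ⟨hx, hxK⟩))
  rwa [hO, Subgroup.mem_bot] at this

namespace Setting

variable [Finite G] (s : Setting G)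

/-- The exchanged setting. -/
def swap : Setting G where
  D := s.D.swap
  odd := s.odd
  hO := s.hO
  ind := fun H _ _ h E a ha b hb => by
    have := (oddCore H).inv_mem (s.ind H h E.swap b hb a ha)
    simpa [mul_assoc] using this
  noNorm₁ := s.noNorm₂
  noNorm₂ := s.noNorm₁

theorem not_central {z : G} (hz : z ∈ s.D.C₁) (hz1 : z ≠ 1) : Subgroup.centralizer ({z} : Set G) ≠ ⊤ := by
  intro htop
  have hc : ∀ g : G, g * z = z * g := fun g => mem_cent.mp (htop ▸ Subgroup.mem_top g)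
  obtain ⟨k, hk⟩ := hz
  rw [hc k, mul_inv_cancel_right] at hk
  haveI : (Subgroup.zpowers z).Normal := ⟨fun x hx g => by
    obtain ⟨j, rfl⟩ := Subgroup.mem_zpowers_iff.mp hx
    have : Commute g (z ^ j) := (show Commute g z from hc g).zpow_right j
    rw [this.eq, mul_inv_cancel_right]
    exact hx⟩
  have := s.noNorm₁ _ this (Subgroup.zpowers_le.mpr hk)
  exact hz1 (Subgroup.zpowers_eq_bot.mp this)

/-- No involution of `S₁` is isolated. -/
theorem exists_moved {z : G} (hz : z ∈ s.D.I₁) (hz1 : z ≠ 1) :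
    ∃ g : G, Commute z (g * z * g⁻¹) ∧ g * z * g⁻¹ ≠ z := by
  by_contra hcon
  push Not at hcon
  have h := ZStar.inZStar (Involutions.orderOf_eq_two_iff'.mpr ⟨hz.2, hz1⟩) hcon
  refine s.not_central hz.1 hz1 (eq_top_iff.mpr fun g _ => mem_cent.mpr ?_)
  have := h g
  rw [show pPrimeCore 2 G = oddCore G from rfl, s.hO, Subgroup.mem_bot, mul_inv_eq_one] at this
  exact mul_inv_eq_iff_eq_mul.mp this

/-- The centraliser of a product of commuting involutions of the two kinds is proper. -/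
theorem mixed_ne_top {v w : G} (hv : v ∈ s.D.I₁) (hv1 : v ≠ 1) (hw : w ∈ s.D.I₂) (hvw : Commute v w) :
    Subgroup.centralizer ({v * w} : Set G) ≠ ⊤ := by
  intro htop
  have hc : ∀ g : G, Commute g (v * w) := fun g => mem_cent.mp (htop ▸ Subgroup.mem_top g)
  obtain ⟨g, hg, hne⟩ := s.exists_moved hv hv1
  apply hne
  set v' := g * v * g⁻¹ with hv'
  set w' := g * w * g⁻¹ with hw'
  have hv'I : v' ∈ s.D.I₁ := Pair.conj_mem_I₁ hv g
  have hw'I : w' ∈ s.D.I₂ := Pair.conj_mem_I₂ hw g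
  have hprod : v' * w' = v * w := by
    calc v' * w' = g * (v * w) * g⁻¹ := by rw [hv', hw']; group
      _ = v * w := by rw [(hc g).eq, mul_inv_cancel_right]
  set d := v * v' with hd
  have hd2 : d * d = 1 := by
    calc d * d = v * (v' * v) * v' := by rw [hd]; group
      _ = v * (v * v') * v' := by rw [hg.eq]
      _ = (v * v) * (v' * v') := by group
      _ = 1 := by rw [hv.2, hv'I.2, mul_one]
  have hdw : d = w * w' := by
    have hvi : v⁻¹ = v := inv_eq_of_mul_eq_one_right hv.2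
    calc d = v * (v' * w') * w'⁻¹ := by rw [hd]; group
      _ = v * (v * w) * w'⁻¹ := by rw [hprod]
      _ = (v * v) * (w * w'⁻¹) := by group
      _ = w * w' := by rw [hv.2, one_mul, inv_eq_of_mul_eq_one_right hw'I.2]
  have hww' : Commute w w' := by
    show w * w' = w' * w
    calc w * w' = (w * w')⁻¹ := eq_inv_of_mul_eq_one_left (by rw [← hdw]; exact hd2)
      _ = w' * w := by
        rw [mul_inv_rev, inv_eq_of_mul_eq_one_right hw'I.2, inv_eq_of_mul_eq_one_right hw.2]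
  -- `⟨v, v', w⟩` is a commutative group of exponent two
  have hv'w : Commute v' w := by
    have h1 : Commute (v * v') w := by
      rw [← hd, hdw]
      exact (Commute.refl w).mul_left hww'.symm
    have h2 := hvw.mul_left h1
    rwa [← mul_assoc, hv.2, one_mul] at h2
  let T : Subgroup G := Subgroup.closure {v, v', w}
  have hTc : ∀ x ∈ T, ∀ y ∈ T, Commute x y := by
    intro x hx y hy
    refine Subgroup.closure_induction₂ (p := fun a b _ _ => Commute a b) ?_ (fun a _ => Commute.one_left a)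
      (fun a _ => Commute.one_right a) (fun a b c _ _ _ h1 h2 => h1.mul_left h2)
      (fun a b c _ _ _ h1 h2 => h1.mul_right h2) (fun a b _ _ h => h.inv_left) (fun a b _ _ h => h.inv_right) hx hy
    intro a b ha hb
    rcases ha with ha | ha | ha <;> rcases hb with hb | hb | hb <;> rw [ha, hb]
    exacts [Commute.refl _, hg, hvw, hg.symm, Commute.refl _, hv'w, hvw.symm, hv'w.symm, Commute.refl _]
  have hTsq : ∀ x ∈ T, x * x = 1 := by
    intro x hx
    induction hx using Subgroup.closure_induction with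
    | mem a ha =>
      rcases ha with ha | ha | ha <;> rw [ha]
      exacts [hv.2, hv'I.2, hw.2]
    | one => exact one_mul 1
    | mul a b ha hb iha ihb =>
      rw [mul_assoc, ← mul_assoc b a b, (hTc b hb a ha).eq, mul_assoc a b b, ihb, mul_one, iha]
    | inv a _ iha => rw [← mul_inv_rev, iha, inv_one]
  have hT : IsPGroup 2 T := fun x => ⟨1, Subtype.ext (by simpa [pow_two] using hTsq x x.2)⟩
  have hvT : v ∈ T := Subgroup.subset_closure (by simp)
  have hv'T : v' ∈ T := Subgroup.subset_closure (by simp)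
  have hwT : w ∈ T := Subgroup.subset_closure (by simp)
  have hw'T : w' ∈ T := by
    have : w' = w * (w * w') := by rw [← mul_assoc, hw.2, one_mul]
    rw [this, ← hdw]
    exact T.mul_mem hwT (T.mul_mem hvT hv'T)
  obtain ⟨k, hk⟩ := Pair.exists_conj_le hT s.D
  have h1 : k * d * k⁻¹ ∈ s.D.S₁ := by
    have h := s.D.S₁.mul_mem (Pair.mem_S₁_of_mem hv.1 (hk v hvT)) (Pair.mem_S₁_of_mem hv'I.1 (hk v' hv'T))
    simpa [hd, mul_assoc] using h
  have h2 : k * d * k⁻¹ ∈ s.D.S₂ := by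
    have h := s.D.S₂.mul_mem (Pair.mem_S₂_of_mem hw.1 (hk w hwT)) (Pair.mem_S₂_of_mem hw'I.1 (hk w' hw'T))
    simpa [hdw, mul_assoc] using h
  have h3 : k * d * k⁻¹ ∈ s.D.S₁ ⊓ s.D.S₂ := ⟨h1, h2⟩
  rw [s.D.disj, Subgroup.mem_bot] at h3
  have h4 : d = 1 := by simpa using h3
  rw [hd, mul_eq_one_iff_eq_inv, inv_eq_of_mul_eq_one_right hv'I.2] at h4
  exact h4.symm

/-- **The dihedral lemma**: an involution `z` of the first kind is conjugate, by an element of `O(C(z'w))`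
inverted by `z'` and `w`, to an involution `z'` of the first kind commuting with `w`. -/
theorem exists_commuting {z w : G} (hz : z ∈ s.D.I₁) (hw : w ∈ s.D.I₂) :
    ∃ z' r : G, z' ∈ s.D.I₁ ∧ Commute z' w ∧ r ∈ Subgroup.zpowers ((z * w) * (z * w)) ∧
      z = r * z' * r⁻¹ ∧ z' * r * z'⁻¹ = r⁻¹ ∧ w * r * w⁻¹ = r⁻¹ ∧ (z * w) * (z * w) ∈ R (z' * w) := by
  by_cases hcomm : Commute z w
  · refine ⟨z, 1, hz, hcomm, one_mem _, by simp, by simp, by simp, ?_⟩
    have : (z * w) * (z * w) = 1 := by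
      rw [mul_assoc, ← mul_assoc w z w, ← hcomm.eq, mul_assoc z w w, hw.2, mul_one, hz.2]
    rw [this]
    exact one_mem _
  have hz1 : z ≠ 1 := fun h => hcomm (h ▸ Commute.one_left w)
  have hw1 : w ≠ 1 := fun h => hcomm (h ▸ Commute.one_right z)
  have hzi : z⁻¹ = z := inv_eq_of_mul_eq_one_right hz.2
  have hwi : w⁻¹ = w := inv_eq_of_mul_eq_one_right hw.2
  set q := z * w with hq
  have hev : Even (orderOf q) := by
    rw [← Nat.not_odd_iff_even]
    intro hodd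
    obtain ⟨d, -, hd⟩ := Involutions.exists_conj_eq_of_odd hz.2 hw.2 hodd
    exact hw1 (Pair.eq_one_of_mem_both (hd ▸ Pair.conj_mem_C₁ hz.1 d) hw.1)
  obtain ⟨m, hm⟩ := hev
  obtain ⟨hcz, hcw⟩ := Involutions.central_half hz.2 hw.2 ⟨m, hm⟩
  have hc2 := Involutions.orderOf_half (x := z) (y := w) ⟨m, hm⟩
  rw [show orderOf (z * w) / 2 = m by rw [← hq]; omega] at hcz hcw hc2
  rw [← hq] at hcz hcw hc2
  obtain ⟨hcc, hc1⟩ := Involutions.orderOf_eq_two_iff'.mp hc2
  -- powers of `q` conjugate `z` and `w`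
  have hrot : ∀ k : ℤ, q ^ k * z * (q ^ k)⁻¹ = z * q ^ (-(2 * k)) := fun k => by
    rw [hq, Involutions.zpow_mul_eq hz.2 hw.2, mul_assoc, ← zpow_neg, ← zpow_add]
    ring_nf
  have hwq : ∀ k : ℤ, q ^ k * w * (q ^ k)⁻¹ = z * q ^ (-(2 * k) + 1) := fun k => by
    have e : w = z * q := by rw [hq, ← mul_assoc, hz.2, one_mul]
    calc q ^ k * w * (q ^ k)⁻¹ = (q ^ k * z * (q ^ k)⁻¹) * (q ^ k * q * (q ^ k)⁻¹) := by rw [e]; group
      _ = z * q ^ (-(2 * k) + 1) := by
        rw [hrot, show q ^ k * q * (q ^ k)⁻¹ = q by group, zpow_add, zpow_one, mul_assoc]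
  rcases Nat.even_or_odd m with ⟨i, hi⟩ | hmodd
  · -- `m` even: `z z^q'` and `w w^q'` would both be the central involution
    exfalso
    have hzc : z * q ^ m ∈ s.D.I₁ := by
      have := Pair.conj_mem_I₁ hz (q ^ (-(i : ℤ)))
      rwa [hrot, neg_mul_eq_mul_neg, neg_neg, show (2 : ℤ) * (i : ℤ) = ((m : ℕ) : ℤ) by
        rw [hi]; push_cast; ring, zpow_natCast] at this
    have hwc : w * q ^ m ∈ s.D.I₂ := by
      have := Pair.conj_mem_I₂ hw (q ^ (-(i : ℤ)))
      rwa [hwq, show -(2 * -(i : ℤ)) + 1 = 1 + ((m : ℕ) : ℤ) by rw [hi]; push_cast; ring, zpow_add, zpow_one,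
        zpow_natCast, ← mul_assoc, show z * q = w by rw [hq, ← mul_assoc, hz.2, one_mul]] at this
    have key : ∀ (E : Pair G) (x y : G), x ∈ E.I₁ → y ∈ E.I₁ → Commute x y → x * y ∈ E.C₁ := by
      intro E x y hx hy hxy
      have hT : IsPGroup 2 (Subgroup.zpowers x ⊔ Subgroup.zpowers y : Subgroup G) := by
        refine IsPGroup.to_sup_of_normal_right' ?_ ?_ ?_
        · exact Pair.isPGroup_zpowers hx.1
        · exact Pair.isPGroup_zpowers hy.1
        · rw [Subgroup.zpowers_le]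
          refine Subgroup.mem_normalizer_iff.mpr fun t => ⟨fun ht => ?_, fun ht => ?_⟩
          · obtain ⟨j, rfl⟩ := Subgroup.mem_zpowers_iff.mp ht
            rw [(hxy.zpow_right j).eq, mul_inv_cancel_right]
            exact ht
          · obtain ⟨j, hj⟩ := Subgroup.mem_zpowers_iff.mp ht
            have : t = y ^ j := by
              calc t = x⁻¹ * (x * t * x⁻¹) * x := by group
                _ = y ^ j := by rw [← hj, ((hxy.zpow_right j).inv_left).eq, mul_assoc, inv_mul_cancel, mul_one]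
            rw [this]
            exact Subgroup.zpow_mem_zpowers y j
      obtain ⟨k, hk⟩ := Pair.exists_conj_le hT E
      refine ⟨k, ?_⟩
      have := E.S₁.mul_mem (Pair.mem_S₁_of_mem hx.1 (hk x (Subgroup.mem_sup_left (Subgroup.mem_zpowers x))))
        (Pair.mem_S₁_of_mem hy.1 (hk y (Subgroup.mem_sup_right (Subgroup.mem_zpowers y))))
      simpa [mul_assoc] using this
    have h1 := key s.D z (z * q ^ m) hz hzc ((Commute.refl z).mul_right hcz.symm)
    have h2 := key s.D.swap w (w * q ^ m) hw hwc ((Commute.refl w).mul_right hcw.symm)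
    rw [← mul_assoc, hz.2, one_mul] at h1
    rw [← mul_assoc, hw.2, one_mul] at h2
    exact hc1 (Pair.eq_one_of_mem_both h1 h2)
  · obtain ⟨j, hj⟩ := hmodd
    set z' := w * q ^ m with hz'
    have hz'w : Commute z' w := (Commute.refl w).mul_left hcw
    have hprod : z' * w = q ^ m := by rw [hz', mul_assoc, hcw.eq, ← mul_assoc, hw.2, one_mul]
    have hexp : z' = z * q ^ ((2 * j + 2 : ℕ) : ℤ) := by
      rw [hz', zpow_natCast, show 2 * j + 2 = 1 + m by omega, pow_add, pow_one, ← mul_assoc]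
      congr 1
      rw [hq, ← mul_assoc, hz.2, one_mul]
    -- an even exponent `k` with `2 k ≡ 2 j + 2`
    obtain ⟨k, hk2, hkeq⟩ : ∃ k : ℤ, (∃ l : ℤ, k = 2 * l) ∧ q ^ (-(2 * k)) = q ^ (-((2 * j + 2 : ℕ) : ℤ)) := by
      rcases Nat.even_or_odd (j + 1) with ⟨l, hl⟩ | ⟨l, hl⟩
      · exact ⟨((j + 1 : ℕ) : ℤ), ⟨l, by rw [hl]; push_cast; ring⟩, by push_cast; ring_nf⟩
      · refine ⟨((j + 1 + m : ℕ) : ℤ), ⟨((l + j + 1 : ℕ) : ℤ), by rw [hl, hj]; push_cast; ring⟩, ?_⟩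
        rw [show -(2 * ((j + 1 + m : ℕ) : ℤ)) = -((2 * j + 2 : ℕ) : ℤ) + -((m + m : ℕ) : ℤ) by push_cast; ring,
          zpow_add, zpow_neg q ((m + m : ℕ) : ℤ), zpow_natCast, ← hm, pow_orderOf_eq_one, inv_one, mul_one]
    obtain ⟨l, hl⟩ := hk2
    have hz'eq : z' = (q ^ k)⁻¹ * z * q ^ k := by
      have h := hrot (-k)
      rw [zpow_neg, inv_inv] at h
      rw [h, hexp]
      congr 1
      rw [show -(2 * -k) = - (-(2 * k)) by ring, zpow_neg q (-(2 * k)), hkeq, zpow_neg, inv_inv]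
    have hinvz : ∀ i : ℤ, z * q ^ i * z⁻¹ = (q ^ i)⁻¹ := fun i => by
      rw [hq, Involutions.conj_zpow_eq_inv hz.2 hw.2, zpow_neg]
    have hinvw : ∀ i : ℤ, w * q ^ i * w⁻¹ = (q ^ i)⁻¹ := fun i => by
      have e : w = z * q := by rw [hq, ← mul_assoc, hz.2, one_mul]
      calc w * q ^ i * w⁻¹ = z * (q * q ^ i * q⁻¹) * z⁻¹ := by rw [e]; group
        _ = z * q ^ i * z⁻¹ := by rw [(Commute.self_zpow q i).eq, mul_inv_cancel_right]
        _ = _ := hinvz i
    refine ⟨z', q ^ k, ?_, hz'w, ?_, by rw [hz'eq]; group, ?_, hinvw k, ?_⟩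
    · rw [hz'eq]
      simpa using Pair.conj_mem_I₁ hz (q ^ k)⁻¹
    · refine Subgroup.mem_zpowers_iff.mpr ⟨l, ?_⟩
      rw [hl, ← zpow_ofNat q 2 |>.trans (pow_two q), ← zpow_mul]
    · rw [hz', mul_inv_rev]
      calc w * q ^ m * q ^ k * ((q ^ m)⁻¹ * w⁻¹) = w * (q ^ m * q ^ k * (q ^ m)⁻¹) * w⁻¹ := by group
        _ = w * q ^ k * w⁻¹ := by rw [show q ^ m * q ^ k * (q ^ m)⁻¹ = q ^ k by group]
        _ = _ := hinvw k
    · -- `[z, w] ∈ O(C(z' w))`
      have hz'1 : z' ≠ 1 := by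
        intro h
        rw [hz'eq] at h
        exact hz1 (by
          calc z = q ^ k * ((q ^ k)⁻¹ * z * q ^ k) * (q ^ k)⁻¹ := by group
            _ = 1 := by rw [h]; group)
      have hz'I : z' ∈ s.D.I₁ := by
        rw [hz'eq]
        simpa using Pair.conj_mem_I₁ hz (q ^ k)⁻¹
      have hne := s.mixed_ne_top hz'I hz'1 hw hz'w
      rw [hprod] at hne ⊢
      have := ind_mem s.D s.ind hne hz.1 (mem_cent.mpr hcz.symm) hw.1 (mem_cent.mpr hcw.symm)
      rwa [hzi, hwi, mul_assoc (z * w) z w, ← hq] at this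

end Setting

end CfsgLib.AfterFT.PairClosed
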