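import Mathlib.GroupTheory.Transfer
import Cfsg.Agent.Lib.AfterFT.PairClosed.Pair

/-!
A transfer from the normal closure of a strongly closed subgroup.
-/

set_option autoImplicit false
set_option linter.unusedSectionVars false
set_option linter.style.haveILetI false

namespace CfsgLib.AfterFT.PairClosed

open Cfsg

universe u
variable {G : Type u} [Group G] [Finite G]

theorem odd_index_inf_normal (P : Sylow 2 G) (H : Subgroup G) [H.Normal] :
    Odd (((P : Subgroup G) ⊓ H).relIndex H) := by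
  haveI : Fact (Nat.Prime 2) := ⟨Nat.prime_two⟩
  obtain ⟨T⟩ : Nonempty (Sylow 2 H) := inferInstance
  obtain ⟨Q, hQ⟩ := (T.2.map H.subtype).exists_le_sylow
  obtain ⟨g, hg⟩ := MulAction.exists_smul_eq G Q P
  set T' := ((T : Subgroup H).map H.subtype).map ((MulAut.conj g : G ≃* G) : G →* G) with hT'
  have hle : T' ≤ (P : Subgroup G) ⊓ H := by
    rintro _ ⟨t, ht, rfl⟩
    refine ⟨?_, ‹H.Normal›.conj_mem _ (Subgroup.map_subtype_le _ ht) g⟩
    rw [← hg, Sylow.coe_subgroup_smul]
    exact ⟨t, hQ ht, rfl⟩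
  rw [← Nat.not_even_iff_odd, even_iff_two_dvd]
  intro hd
  refine T.not_dvd_index (hd.trans ((Subgroup.relIndex_dvd_of_le_left H hle).trans (dvd_of_eq ?_)))
  have h1 : Nat.card T' = Nat.card (T : Subgroup H) := by
    rw [hT', Subgroup.card_map_of_injective (MulAut.conj g).injective,
      Subgroup.card_map_of_injective H.subtype_injective]
  have h2 := (T'.subgroupOf H).index_mul_card
  rw [Nat.card_congr (Subgroup.subgroupOfEquivOfLe (hle.trans inf_le_right)).toEquiv, h1,
    ← (T : Subgroup H).index_mul_card] at h2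
  exact Nat.eq_of_mul_eq_mul_right Nat.card_pos h2

/-- A homomorphism of a Sylow subgroup of `⟨A^G⟩` to an abelian group which kills the strongly closed `A` also
kills the central elements of `⟨A^G⟩`. -/
theorem hom_eq_one_of_central (P : Sylow 2 G) {A : Subgroup G} (hA : IsStronglyClosed A (P : Subgroup G))
    (H : Subgroup G) [H.Normal] (hH : H = Subgroup.normalClosure (A : Set G))
    {C : Type u} [CommGroup C] (φ : ↥((P : Subgroup G) ⊓ H) →* C)
    (hφ : ∀ y : ↥((P : Subgroup G) ⊓ H), (y : G) ∈ A → φ y = 1) {x : G}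
    (hx : x ∈ (P : Subgroup G) ⊓ H) (hc : ∀ y ∈ H, Commute x y) : φ ⟨x, hx⟩ = 1 := by
  classical
  set Q : Subgroup H := ((P : Subgroup G) ⊓ H).subgroupOf H with hQ
  have hodd : Odd Q.index := odd_index_inf_normal P H
  let ψ : Q →* C := φ.comp (Subgroup.subgroupOfEquivOfLe inf_le_right).toMonoidHom
  let V : H →* C := MonoidHom.transfer ψ
  -- the transfer kills the conjugates of `A`
  have hkill : ∀ y : H, (y : G) ∈ Group.conjugatesOfSet (A : Set G) → V y = 1 := by
    intro y hy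
    haveI : Fintype (Quotient (MulAction.orbitRel (Subgroup.zpowers y) (H ⧸ Q))) := Fintype.ofFinite _
    show MonoidHom.transfer ψ y = 1
    rw [MonoidHom.transfer_eq_prod_quotient_orbitRel_zpowers_quot]
    refine Finset.prod_eq_one fun q _ => ?_
    show φ _ = 1
    refine hφ _ ?_
    obtain ⟨a, ha, hay⟩ := Group.mem_conjugatesOfSet_iff.mp hy
    obtain ⟨c, hc'⟩ := isConj_iff.mp hay
    set k := Function.minimalPeriod (y • ·) q.out
    have hP := (Subgroup.mem_subgroupOf.mp (QuotientGroup.out_conj_pow_minimalPeriod_mem Q y q.out)).1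
    set h : H := q.out.out
    have e : ((h⁻¹ * y ^ k * h : H) : G) = ((h : G)⁻¹ * c) * a ^ k * ((h : G)⁻¹ * c)⁻¹ := by
      push_cast
      rw [← hc', conj_pow]
      group
    show ((h⁻¹ * y ^ k * h : H) : G) ∈ A
    rw [e] at hP ⊢
    exact hA.2 _ (pow_mem ha k) _ hP
  have hV : ∀ y : H, V y = 1 := by
    subst hH
    rintro ⟨y, hy⟩
    induction hy using Subgroup.closure_induction with
    | mem z hz => exact hkill ⟨z, Subgroup.subset_closure hz⟩ hz
    | one => exact map_one V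
    | mul a b ha hb iha ihb =>
      show V (⟨a, ha⟩ * ⟨b, hb⟩) = 1
      rw [map_mul, iha, ihb, mul_one]
    | inv a ha iha =>
      show V (⟨a, ha⟩⁻¹) = 1
      rw [map_inv, iha, inv_one]
  -- on a central element it is a power
  let x' : H := ⟨x, hx.2⟩
  have key : ∀ (k : ℕ) (g₀ : H), g₀⁻¹ * x' ^ k * g₀ ∈ Q → g₀⁻¹ * x' ^ k * g₀ = x' ^ k := fun k g₀ _ => by
    have : Commute x' g₀ := Subtype.ext (hc g₀ g₀.2)
    rw [mul_assoc, (this.pow_left k).eq, inv_mul_cancel_left]
  have h1 : V x' = ψ ⟨x' ^ Q.index, MonoidHom.transfer_eq_pow_aux x' key⟩ := MonoidHom.transfer_eq_pow ψ x' key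
  rw [hV x'] at h1
  have h2 : φ (⟨x, hx⟩ ^ Q.index) = 1 := h1.symm
  rw [map_pow] at h2
  obtain ⟨m, hm⟩ := (P.2.to_le inf_le_left : IsPGroup 2 ↥((P : Subgroup G) ⊓ H)) ⟨x, hx⟩
  have h3 : φ ⟨x, hx⟩ ^ 2 ^ m = 1 := by rw [← map_pow, hm, map_one]
  have hcop : Nat.Coprime Q.index (2 ^ m) := ((Nat.coprime_two_right.mpr hodd)).pow_right m
  have := pow_gcd_eq_one.mpr ⟨h2, h3⟩
  rwa [hcop, pow_one] at this

end CfsgLib.AfterFT.PairClosed
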