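import Cfsg.Agent.Lib.AfterFT.PairClosed.Main
import Cfsg.Agent.Lib.AfterFT.PairClosed.Transfer

/-!
A Sylow `2`-subgroup which is a direct product of two strongly closed subgroups: `G` is a direct product.
-/

set_option autoImplicit false
set_option linter.unusedSectionVars false
set_option linter.style.haveILetI false

namespace CfsgLib.AfterFT.PairClosed

open Cfsg

universe u
variable {G : Type u} [Group G] [Finite G]

/-- If `⟨S₁^G⟩ ⟨S₂^G⟩ = G` with commuting factors and `S = S₁ S₂`, then a central element of `S₁` in `⟨S₂^G⟩` is trivial. -/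
theorem eq_one_of_center (P : Sylow 2 G) {S₁ S₂ : Subgroup G} (h : IsInternalDirectProduct S₁ S₂ (P : Subgroup G))
    (h₂ : IsStronglyClosed S₂ (P : Subgroup G))
    (hcen : Subgroup.normalClosure (S₁ : Set G) ⊓ Subgroup.normalClosure (S₂ : Set G) ≤ Subgroup.center G) :
    S₁ ⊓ Subgroup.normalClosure (S₂ : Set G) = ⊥ := by
  classical
  set N := Subgroup.normalClosure (S₂ : Set G) with hN
  have hdec : ∀ y : ↥((P : Subgroup G) ⊓ N), ∃ a ∈ S₁, ∃ b ∈ S₂, (y : G) = a * b ∧ a ∈ Subgroup.center G := by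
    rintro ⟨y, hyP, hyN⟩
    obtain ⟨a, ha, b, hb, e⟩ := mem_sup_of_le_normalizer (W := S₁) (A := S₂)
      (fun b hb => Subgroup.mem_normalizer_iff.mpr fun a => ⟨fun ha => by
        rw [← h.2.2.1 a ha b hb, mul_inv_cancel_right]; exact ha, fun ha => by
        have e := h.2.2.1 _ ha b hb
        have : a = b * a * b⁻¹ := by
          calc a = b⁻¹ * (b * a * b⁻¹ * b) := by group
            _ = b⁻¹ * (b * (b * a * b⁻¹)) := by rw [e]
            _ = b * a * b⁻¹ := by group
        rw [this]; exact ha⟩) (h.2.2.2.2.symm ▸ hyP)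
    refine ⟨a, ha, b, hb, e.symm, hcen ⟨Subgroup.subset_normalClosure ha, ?_⟩⟩
    have : a = y * b⁻¹ := by rw [← e, mul_inv_cancel_right]
    rw [this]
    exact N.mul_mem hyN (N.inv_mem (Subgroup.subset_normalClosure hb))
  choose f hf g hg hfg hfc using hdec
  have huniq : ∀ {a a' b b' : G}, a ∈ S₁ → a' ∈ S₁ → b ∈ S₂ → b' ∈ S₂ → a * b = a' * b' → a = a' := by
    intro a a' b b' ha ha' hb hb' e
    have h1 : a'⁻¹ * a ∈ S₁ ⊓ S₂ := ⟨S₁.mul_mem (S₁.inv_mem ha') ha, by
      have : a'⁻¹ * a = b' * b⁻¹ := by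
        calc a'⁻¹ * a = a'⁻¹ * (a * b) * b⁻¹ := by group
          _ = b' * b⁻¹ := by rw [e]; group
      rw [this]; exact S₂.mul_mem hb' (S₂.inv_mem hb)⟩
    rw [h.2.2.2.1, Subgroup.mem_bot, inv_mul_eq_one] at h1
    exact h1.symm
  let φ : ↥((P : Subgroup G) ⊓ N) →* ↥(Subgroup.center G) :=
    MonoidHom.mk' (fun y => ⟨f y, hfc y⟩) fun y z => Subtype.ext <| by
      refine huniq (hf (y * z)) (S₁.mul_mem (hf y) (hf z)) (hg (y * z)) (S₂.mul_mem (hg y) (hg z)) ?_
      rw [← hfg, Subgroup.coe_mul, hfg, hfg]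
      simp only [Subgroup.coe_mul]
      calc f y * g y * (f z * g z) = f y * (g y * f z) * g z := by group
        _ = f y * (f z * g y) * g z := by rw [h.2.2.1 _ (hf z) _ (hg y)]
        _ = _ := by group
  rw [eq_bot_iff]
  rintro x ⟨hx₁, hxN⟩
  have hxc : x ∈ Subgroup.center G := hcen ⟨Subgroup.subset_normalClosure hx₁, hxN⟩
  haveI : N.Normal := Subgroup.normalClosure_normal
  letI : CommGroup ↥(Subgroup.center G) :=
    { (inferInstance : Group ↥(Subgroup.center G)) with
      mul_comm := fun a b => Subtype.ext (Subgroup.mem_center_iff.mp b.2 a) }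
  have h1 := hom_eq_one_of_central (C := ↥(Subgroup.center G)) P h₂ N hN φ (fun y hy => Subtype.ext <| by
    show f y = 1
    exact huniq (hf y) S₁.one_mem (hg y) hy (by rw [← hfg, one_mul])) (x := x) ⟨h.1 hx₁, hxN⟩
    (fun y _ => (Subgroup.mem_center_iff.mp hxc y).symm)
  have h2 : f ⟨x, h.1 hx₁, hxN⟩ = x :=
    huniq (hf _) hx₁ (hg _) S₂.one_mem (by rw [← hfg, mul_one])
  have h3 : f ⟨x, h.1 hx₁, hxN⟩ = 1 := congrArg Subtype.val h1
  rw [Subgroup.mem_bot, ← h2, h3]

/-- **Product theorem.** -/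
theorem product_decomposition (odd : ∀ (H : Type u) [Group H] [Finite H], Odd (Nat.card H) → Group.IsSolvable H)
    (hO : oddCore G = ⊥) (hO' : ∀ N : Subgroup G, N.Normal → Odd N.index → N = ⊤) (P : Sylow 2 G)
    {S₁ S₂ : Subgroup G} (h : IsInternalDirectProduct S₁ S₂ (P : Subgroup G))
    (h₁ : IsStronglyClosed S₁ (P : Subgroup G)) (h₂ : IsStronglyClosed S₂ (P : Subgroup G)) :
    IsInternalDirectProduct (Subgroup.normalClosure (S₁ : Set G)) (Subgroup.normalClosure (S₂ : Set G)) ⊤ ∧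
      Odd (S₁.relIndex (Subgroup.normalClosure (S₁ : Set G))) ∧
      Odd (S₂.relIndex (Subgroup.normalClosure (S₂ : Set G))) := by
  haveI : Fact (Nat.Prime 2) := ⟨Nat.prime_two⟩
  set N₁ := Subgroup.normalClosure (S₁ : Set G) with hN₁
  set N₂ := Subgroup.normalClosure (S₂ : Set G) with hN₂
  have hc := commutator_normalClosure_le odd P S₁ S₂ h₁ h₂ h.2.2.1 h.2.2.2.1
  rw [hO, le_bot_iff, Subgroup.commutator_eq_bot_iff_le_centralizer] at hc
  have hcomm : ∀ a ∈ N₁, ∀ b ∈ N₂, a * b = b * a := fun a ha b hb => (hc ha b hb).symm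
  have htop : N₁ ⊔ N₂ = ⊤ := by
    refine hO' _ inferInstance ?_
    have hle : (P : Subgroup G) ≤ N₁ ⊔ N₂ := by
      rw [← h.2.2.2.2]; exact sup_le_sup Subgroup.subset_normalClosure Subgroup.subset_normalClosure
    rw [← Nat.not_even_iff_odd, even_iff_two_dvd]
    exact fun hd => P.not_dvd_index (hd.trans (Subgroup.index_dvd_of_le hle))
  have hcen : N₁ ⊓ N₂ ≤ Subgroup.center G := by
    intro x hx
    have : (⊤ : Subgroup G) ≤ Subgroup.centralizer {x} := by
      rw [← htop]
      exact sup_le (fun a ha => mem_cent.mpr (hcomm a ha x hx.2))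
        (fun b hb => mem_cent.mpr (hcomm x hx.1 b hb).symm)
    exact Subgroup.mem_center_iff.mpr fun g => mem_cent.mp (this (Subgroup.mem_top g))
  -- the intersection is a `2`-group inside `P`
  have hbot : N₁ ⊓ N₂ = ⊥ := by
    set Z := N₁ ⊓ N₂ with hZ
    have h12 := eq_one_of_center P h h₂ hcen
    have h21 := eq_one_of_center P (S₁ := S₂) (S₂ := S₁) ⟨h.2.1, h.1, fun a ha b hb => (h.2.2.1 b hb a ha).symm,
      by rw [inf_comm]; exact h.2.2.2.1, by rw [sup_comm]; exact h.2.2.2.2⟩ h₁ (by rw [inf_comm]; exact hcen)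
    haveI : IsMulCommutative Z := ⟨⟨fun a b => Subtype.ext (Subgroup.mem_center_iff.mp (hcen b.2) a)⟩⟩
    have hZ2 : IsPGroup 2 Z := by
      intro z
      obtain ⟨k, m, hm, he⟩ := Nat.exists_eq_two_pow_mul_odd (orderOf_pos (z : G)).ne'
      refine ⟨k, Subtype.ext ?_⟩
      set w := (z : G) ^ 2 ^ k with hw
      have hwc : w ∈ Subgroup.center G := pow_mem (hcen z.2) _
      haveI : (Subgroup.zpowers w).Normal := ⟨fun x hx g => by
        have := Subgroup.mem_center_iff.mp (Subgroup.zpowers_le.mpr hwc hx) g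
        rw [this, mul_inv_cancel_right]; exact hx⟩
      have hle : Subgroup.zpowers w ≤ oddCore G := le_oddCore (by
        rw [Nat.card_zpowers]
        exact hm.of_dvd_nat (orderOf_dvd_of_pow_eq_one (by rw [hw, ← pow_mul, ← he, pow_orderOf_eq_one])))
      rw [hO] at hle
      simpa [hw] using Subgroup.zpowers_eq_bot.mp (le_bot_iff.mp hle)
    haveI : Z.Normal := inferInstance
    rw [eq_bot_iff]
    intro x hx
    have hxP : x ∈ (P : Subgroup G) := pCore_le_sylow P (le_pCore hZ2 hx)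
    obtain ⟨a, ha, b, hb, rfl⟩ := mem_sup_of_le_normalizer (W := S₁) (A := S₂) (fun b hb =>
      Subgroup.mem_normalizer_iff.mpr fun a => ⟨fun ha => by
        rw [← h.2.2.1 a ha b hb, mul_inv_cancel_right]; exact ha, fun ha => by
        have e := h.2.2.1 _ ha b hb
        have : a = b * a * b⁻¹ := by
          calc a = b⁻¹ * (b * a * b⁻¹ * b) := by group
            _ = b⁻¹ * (b * (b * a * b⁻¹)) := by rw [e]
            _ = b * a * b⁻¹ := by group
        rw [this]; exact ha⟩) (h.2.2.2.2.symm ▸ hxP)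
    have haN : a ∈ S₁ ⊓ N₂ := ⟨ha, by
      have : a = a * b * b⁻¹ := by group
      rw [this]; exact N₂.mul_mem hx.2 (N₂.inv_mem (Subgroup.subset_normalClosure hb))⟩
    rw [h12, Subgroup.mem_bot] at haN
    subst haN
    have hbN : b ∈ S₂ ⊓ N₁ := ⟨hb, by simpa using hx.1⟩
    rw [h21, Subgroup.mem_bot] at hbN
    subst hbN
    exact Subgroup.mem_bot.mpr (one_mul 1)
  have hodd : ∀ {S T : Subgroup G} (N M : Subgroup G) [N.Normal], S ≤ N → T ≤ M → S ≤ (P : Subgroup G) →
      S ⊔ T = (P : Subgroup G) → (∀ a ∈ S, ∀ b ∈ T, a * b = b * a) → N ⊓ M = ⊥ → Odd (S.relIndex N) := by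
    intro S T N M _ hSN hTM hSP hST hcomm hNM
    have heq : (P : Subgroup G) ⊓ N = S := by
      refine le_antisymm ?_ (le_inf hSP hSN)
      rintro x ⟨hxP, hxN⟩
      obtain ⟨a, ha, b, hb, rfl⟩ := mem_sup_of_le_normalizer (W := S) (A := T) (fun b hb =>
        Subgroup.mem_normalizer_iff.mpr fun a => ⟨fun ha => by
          rw [← hcomm a ha b hb, mul_inv_cancel_right]; exact ha, fun ha => by
          have e := hcomm _ ha b hb
          have : a = b * a * b⁻¹ := by
            calc a = b⁻¹ * (b * a * b⁻¹ * b) := by group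
              _ = b⁻¹ * (b * (b * a * b⁻¹)) := by rw [e]
              _ = b * a * b⁻¹ := by group
          rw [this]; exact ha⟩) (hST.symm ▸ hxP)
      have : b ∈ N ⊓ M := ⟨by
        have : b = a⁻¹ * (a * b) := by group
        rw [this]; exact N.mul_mem (N.inv_mem (hSN ha)) hxN, hTM hb⟩
      rw [hNM, Subgroup.mem_bot] at this
      rw [this, mul_one]; exact ha
    rw [← heq]
    exact odd_index_inf_normal P N
  refine ⟨⟨le_top, le_top, hcomm, hbot, htop⟩, ?_, ?_⟩
  · exact hodd N₁ N₂ Subgroup.subset_normalClosure Subgroup.subset_normalClosure h.1 h.2.2.2.2 h.2.2.1 hbot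
  · exact hodd N₂ N₁ Subgroup.subset_normalClosure Subgroup.subset_normalClosure h.2.1
      (by rw [sup_comm]; exact h.2.2.2.2) (fun a ha b hb => (h.2.2.1 b hb a ha).symm)
      (by rw [inf_comm]; exact hbot)

end CfsgLib.AfterFT.PairClosed
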