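import Cfsg.Agent.Lib.AfterFT.PairClosed.Balance
import Cfsg.Agent.Lib.AfterFT.CoprimeFixedMain
import Cfsg.Agent.Lib.CoprimeSeries

/-!
For commuting four-groups `V₁`, `V₂` of the two kinds and `a ∈ {v, v t}`: the subgroup `[O(C(a)), t]` is
balanced against `A = V₁ V₂`.
-/

set_option autoImplicit false
set_option linter.unusedSectionVars false
set_option linter.style.haveILetI false

namespace CfsgLib.AfterFT.PairClosed

open Cfsg CfsgLib
open scoped commutatorElement

universe u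
variable {G : Type u} [Group G] [Finite G]

/-- A four-group inside a set. -/
structure IsFour (T : Set G) (V : Subgroup G) : Prop where
  sub : ∀ v ∈ V, v ∈ T
  comm : ∀ u ∈ V, ∀ v ∈ V, Commute u v
  sq : ∀ v ∈ V, v * v = 1
  card : Nat.card V = 4

theorem IsFour.cases {T : Set G} {V : Subgroup G} (h : IsFour T V) {t x u : G} (ht : t ∈ V) (ht1 : t ≠ 1)
    (hx : x ∈ V) (hx1 : x ≠ 1) (hne : x ≠ t) (hu : u ∈ V) : u = 1 ∨ u = t ∨ u = x ∨ u = t * x := by
  classical
  have htx : t * x ≠ 1 := fun e => hne (by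
    rw [mul_eq_one_iff_eq_inv, inv_eq_of_mul_eq_one_right (h.sq x hx)] at e
    exact e.symm)
  have hsub : ({1, t, x, t * x} : Set G) ⊆ (V : Set G) := by
    intro y hy
    rcases hy with rfl | rfl | rfl | rfl
    · exact V.one_mem
    · exact ht
    · exact hx
    · exact V.mul_mem ht hx
  have hc : ({1, t, x, t * x} : Set G).ncard = 4 := by
    rw [Set.ncard_insert_of_notMem ?_ (Set.toFinite _), Set.ncard_insert_of_notMem ?_ (Set.toFinite _),
      Set.ncard_pair]
    · intro e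
      exact ht1 (by simpa using e)
    · simp only [Set.mem_insert_iff, Set.mem_singleton_iff, not_or]
      exact ⟨hne.symm, fun e => hx1 (by simpa using e)⟩
    · simp only [Set.mem_insert_iff, Set.mem_singleton_iff, not_or]
      exact ⟨fun e => ht1 e.symm, fun e => hx1 e.symm, fun e => htx e.symm⟩
  have heq := Set.eq_of_subset_of_ncard_le hsub (by
    rw [hc, ← Nat.card_coe_set_eq]; exact h.card.le) (Set.toFinite _)
  have : u ∈ ({1, t, x, t * x} : Set G) := by rw [heq]; exact hu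
  simpa using this

/-- The commutator subgroup `[Y, t]` of an involution `t` lies in `K` once the elements of `Y` inverted by `t` do. -/
theorem comm_zpowers_le {Y K : Subgroup G} {t : G} (ht : t * t = 1) (htY : t ∈ Subgroup.normalizer (Y : Set G))
    (h : ∀ e ∈ Y, t * e * t⁻¹ = e⁻¹ → e ∈ K) : ⁅Y, Subgroup.zpowers t⁆ ≤ K := by
  have ht' : t⁻¹ = t := inv_eq_of_mul_eq_one_right ht
  rw [Subgroup.commutator_le]
  intro y hy u hu
  obtain ⟨k, rfl⟩ := Subgroup.mem_zpowers_iff.mp hu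
  obtain ⟨i, hi⟩ : ∃ i : ℕ, i < 2 ∧ t ^ k = t ^ i := by
    refine ⟨(k % 2).toNat, by omega, ?_⟩
    rw [← zpow_natCast, Int.toNat_of_nonneg (Int.emod_nonneg k two_ne_zero)]
    conv_lhs => rw [← Int.emod_add_mul_ediv k 2, zpow_add, zpow_mul, zpow_two, ht, one_zpow, mul_one]
  rcases i with _ | _ | _
  · rw [hi.2, pow_zero, commutatorElement_def]; simp [K.one_mem]
  · rw [hi.2, pow_one, commutatorElement_def]
    refine h _ ?_ ?_
    · have := Y.mul_mem hy ((Subgroup.mem_normalizer_iff.mp htY _).mp (Y.inv_mem hy))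
      simpa [mul_assoc] using this
    · simp only [mul_inv_rev, inv_inv, ht']
      calc t * (y * t * y⁻¹ * t) * t = t * y * t * y⁻¹ * (t * t) := by group
        _ = _ := by rw [ht, mul_one]; simp [mul_assoc]
  · omega

theorem mem_normalizer_commutator {g : G} {X Z : Subgroup G} (hX : g ∈ Subgroup.normalizer (X : Set G))
    (hZ : g ∈ Subgroup.normalizer (Z : Set G)) : g ∈ Subgroup.normalizer ((⁅X, Z⁆ : Subgroup G) : Set G) := by
  rw [Subgroup.mem_normalizer_iff_map_conj_eq] at hX hZ ⊢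
  rw [Subgroup.map_commutator, hX, hZ]

theorem mem_normalizer_zpowers {g t : G} (h : Commute g t) :
    g ∈ Subgroup.normalizer (Subgroup.zpowers t : Set G) := by
  rw [Subgroup.mem_normalizer_iff_map_conj_eq, MonoidHom.map_zpowers]
  congr 1
  show g * t * g⁻¹ = t
  rw [h.eq, mul_inv_cancel_right]

theorem coprime_two {A Y : Subgroup G} (hA : IsPGroup 2 A) (hY : Odd (Nat.card Y)) :
    (Nat.card A).Coprime (Nat.card Y) := by
  obtain ⟨k, hk⟩ := IsPGroup.iff_card.mp hA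
  rw [hk]
  exact (Nat.coprime_two_left.mpr hY).pow_left k

theorem isPGroup_zpowers_two {t : G} (ht : t * t = 1) : IsPGroup 2 (Subgroup.zpowers t) := fun x => ⟨1, by
  obtain ⟨k, hk⟩ := Subgroup.mem_zpowers_iff.mp x.2
  apply Subtype.ext
  have : (t ^ k) ^ 2 = 1 := by rw [← zpow_natCast, ← zpow_mul, mul_comm, zpow_mul]; simp [pow_two, ht]
  simpa [hk] using this⟩

/-- Two commuting four-groups, one of each kind. -/
structure Quad (s : Setting G) where
  V₁ : Subgroup G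
  V₂ : Subgroup G
  h₁ : IsFour s.D.I₁ V₁
  h₂ : IsFour s.D.I₂ V₂
  cc : ∀ v ∈ V₁, ∀ w ∈ V₂, Commute v w

namespace Quad

variable {s : Setting G} (q : Quad s)

/-- The exchanged pair of four-groups. -/
def swap : Quad s.swap where
  V₁ := q.V₂
  V₂ := q.V₁
  h₁ := q.h₂
  h₂ := q.h₁
  cc := fun v hv w hw => (q.cc w hw v hv).symm

/-- The group `A = V₁ V₂`. -/
def A : Subgroup G := q.V₁ ⊔ q.V₂

theorem swap_A : q.swap.A = q.A := sup_comm _ _

theorem mem_A {a : G} : a ∈ q.A ↔ ∃ v ∈ q.V₁, ∃ w ∈ q.V₂, a = v * w := by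
  constructor
  · intro ha
    obtain ⟨v, hv, w, hw, e⟩ := mem_sup_of_le_normalizer (A := q.V₂) (W := q.V₁) (fun w hw => by
      refine Subgroup.mem_normalizer_iff.mpr fun x => ⟨fun hx => ?_, fun hx => ?_⟩
      · rw [(q.cc x hx w hw).symm.eq, mul_inv_cancel_right]; exact hx
      · have e := (q.cc _ hx w hw).eq
        have : x = w * x * w⁻¹ := by
          calc x = w⁻¹ * (w * x * w⁻¹ * w) := by group
            _ = w⁻¹ * (w * (w * x * w⁻¹)) := by rw [e]
            _ = w * x * w⁻¹ := by group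
        rw [this]; exact hx) ha
    exact ⟨v, hv, w, hw, e.symm⟩
  · rintro ⟨v, hv, w, hw, rfl⟩
    exact Subgroup.mul_mem_sup hv hw

theorem comm_A {a b : G} (ha : a ∈ q.A) (hb : b ∈ q.A) : Commute a b := by
  obtain ⟨v, hv, w, hw, rfl⟩ := q.mem_A.mp ha
  obtain ⟨v', hv', w', hw', rfl⟩ := q.mem_A.mp hb
  exact Commute.mul_left ((q.h₁.comm v hv v' hv').mul_right (q.cc v hv w' hw'))
    ((q.cc v' hv' w hw).symm.mul_right (q.h₂.comm w hw w' hw'))

theorem sq_A {a : G} (ha : a ∈ q.A) : a * a = 1 := by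
  obtain ⟨v, hv, w, hw, rfl⟩ := q.mem_A.mp ha
  rw [mul_assoc, ← mul_assoc w v w, ← (q.cc v hv w hw).eq, mul_assoc v w w, q.h₂.sq w hw, mul_one, q.h₁.sq v hv]

theorem isPGroup_A : IsPGroup 2 q.A := fun x => ⟨1, Subtype.ext (by simpa [pow_two] using q.sq_A x.2)⟩

theorem isPGroup_V₂ : IsPGroup 2 q.V₂ := fun x => ⟨1, Subtype.ext (by simpa [pow_two] using q.h₂.sq x x.2)⟩

theorem V₁_le : q.V₁ ≤ q.A := le_sup_left

theorem V₂_le : q.V₂ ≤ q.A := le_sup_right

theorem proper {b : G} (hb : b ∈ q.A) (hb1 : b ≠ 1) : Subgroup.centralizer ({b} : Set G) ≠ ⊤ := by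
  obtain ⟨v, hv, w, hw, rfl⟩ := q.mem_A.mp hb
  by_cases hv1 : v = 1
  · subst hv1
    rw [one_mul] at hb1 ⊢
    exact s.swap.not_central (q.h₂.sub w hw).1 hb1
  by_cases hw1 : w = 1
  · subst hw1
    rw [mul_one]
    exact s.not_central (q.h₁.sub v hv).1 hv1
  exact s.mixed_ne_top (q.h₁.sub v hv) hv1 (q.h₂.sub w hw) (q.cc v hv w hw)

theorem mem_T₁ {v b : G} (hv : v ∈ q.V₁) (hb : b ∈ q.A) : v ∈ s.T₁ b :=
  ⟨q.h₁.sub v hv, q.comm_A (q.V₁_le hv) hb⟩

theorem mem_T₂ {w b : G} (hw : w ∈ q.V₂) (hb : b ∈ q.A) : w ∈ s.T₂ b :=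
  ⟨q.h₂.sub w hw, q.comm_A (q.V₂_le hw) hb⟩

theorem A_le_normalizer_R {a : G} (ha : a ∈ q.A) : q.A ≤ Subgroup.normalizer (R a : Set G) :=
  fun _ hb => cent_le_normalizer_R (q.comm_A hb ha)

/-- `[O(C(a)), t]`. -/
def P (_q : Quad s) (a t : G) : Subgroup G := ⁅R a, Subgroup.zpowers t⁆

theorem A_le_normalizer_P {a t : G} (ha : a ∈ q.A) (ht : t ∈ q.A) :
    q.A ≤ Subgroup.normalizer (q.P a t : Set G) := fun _ hb =>
  mem_normalizer_commutator (q.A_le_normalizer_R ha hb) (mem_normalizer_zpowers (q.comm_A hb ht))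

theorem P_le {a t : G} (ha : a ∈ q.A) (ht : t ∈ q.A) : q.P a t ≤ R a :=
  Stabilizer.commutator_le_left_of_normalizes (Subgroup.zpowers_le.mpr (q.A_le_normalizer_R ha ht))

theorem odd_of_le_R {a : G} {Y : Subgroup G} (hY : Y ≤ R a) : Odd (Nat.card Y) :=
  (odd_oddOf _).of_dvd_nat (Subgroup.card_dvd_of_le hY)

include q in
theorem solvable_of_le_R {a : G} {Y : Subgroup G} (hY : Y ≤ R a) : Group.IsSolvable Y :=
  s.odd Y (odd_of_le_R hY)

theorem P_comm {a t : G} (ha : a ∈ q.A) (ht : t ∈ q.A) :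
    ⁅q.P a t, Subgroup.zpowers t⁆ = q.P a t :=
  coprime_commutator_commutator (Subgroup.zpowers_le.mpr (q.A_le_normalizer_R ha ht))
    (coprime_two (isPGroup_zpowers_two (q.sq_A ht)) (odd_oddOf _)) (Or.inr (q.solvable_of_le_R le_rfl))

/-- The standing data: `a` is `v` or `v t`. -/
structure Datum (a v t : G) : Prop where
  hv : v ∈ q.V₁
  hv1 : v ≠ 1
  ht : t ∈ q.V₂
  ht1 : t ≠ 1
  ha : a = v ∨ a = v * t

variable {q} {a v t : G}

theorem Datum.mem (d : q.Datum a v t) : a ∈ q.A := by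
  rcases d.ha with rfl | rfl
  · exact q.V₁_le d.hv
  · exact q.A.mul_mem (q.V₁_le d.hv) (q.V₂_le d.ht)

theorem Datum.ne_one (d : q.Datum a v t) : a ≠ 1 := by
  rcases d.ha with rfl | rfl
  · exact d.hv1
  · intro e
    rw [mul_eq_one_iff_eq_inv, inv_eq_of_mul_eq_one_right (q.h₂.sq t d.ht)] at e
    exact d.hv1 (Pair.eq_one_of_mem_both (q.h₁.sub v d.hv).1 (e ▸ (q.h₂.sub t d.ht).1))

theorem Datum.mem_R (d : q.Datum a v t) {b x : G} (hb : b ∈ q.A) (hx : x ∈ R a) (h₁ : x ∈ s.K₁ b)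
    (h₂ : x ∈ s.K₂ b) : x ∈ R b := by
  rcases d.ha with h | h
  · exact s.mem_R_of_K (q.mem_T₁ d.hv hb) (q.mem_T₂ q.V₂.one_mem hb) (Commute.one_right v)
      (h.trans (mul_one v).symm) hx h₁ h₂
  · exact s.mem_R_of_K (q.mem_T₁ d.hv hb) (q.mem_T₂ d.ht hb) (q.cc v d.hv t d.ht) h hx h₁ h₂

/-- Elements of `O(C(a))` inverted by `t` are balanced. -/
theorem Datum.inverted (d : q.Datum a v t) {b x : G} (hb : b ∈ q.A) (hb1 : b ≠ 1) (hx : x ∈ R a)
    (hxb : Commute x b) (hinv : t * x * t⁻¹ = x⁻¹) : x ∈ R b := by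
  have ho := odd_orderOf_of_mem (odd_oddOf _) hx
  refine d.mem_R hb hx (s.mem_K₁_of_inv (q.proper hb hb1) (q.mem_T₂ d.ht hb) hxb ho hinv) ?_
  rcases d.ha with h | h
  · exact s.mem_K₂_of_R (q.proper hb hb1) (q.mem_T₁ d.hv hb) (Or.inl h) hx hxb
  · refine s.mem_K₂_of_inv (q.proper hb hb1) (q.mem_T₁ d.hv hb) hxb ho ?_
    have hvt : v = a * t := by rw [h, mul_assoc, q.h₂.sq t d.ht, mul_one]
    calc v * x * v⁻¹ = a * (t * x * t⁻¹) * a⁻¹ := by rw [hvt]; group
      _ = x⁻¹ := by rw [hinv, ((R_comm hx).inv_left).eq.symm, mul_inv_cancel_right]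

/-- The `t`-fixed points of `[O(C(a)), t]` lie in `O(C(t))`. -/
theorem Datum.fixed_le (d : q.Datum a v t) : q.P a t ⊓ Subgroup.centralizer {t} ≤ R t := by
  classical
  have htA := q.V₂_le d.ht
  have hb1 := d.ht1
  have hproper := q.proper htA hb1
  set P := q.P a t with hP
  have hPR : P ≤ R a := q.P_le d.mem htA
  have hAP : q.A ≤ Subgroup.normalizer (P : Set G) := q.A_le_normalizer_P d.mem htA
  haveI : IsMulCommutative q.V₂ := ⟨⟨fun x y => Subtype.ext (q.h₂.comm x x.2 y y.2).eq⟩⟩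
  have hV₂P : q.V₂ ≤ Subgroup.normalizer (P : Set G) := q.V₂_le.trans hAP
  have hcop : (Nat.card q.V₂).Coprime (Nat.card P) := coprime_two q.isPGroup_V₂ (odd_of_le_R hPR)
  have hPV : ⁅P, q.V₂⁆ = P := by
    refine le_antisymm (commutator_le_of_le_normalizer hV₂P) ?_
    conv_lhs => rw [hP, ← q.P_comm d.mem htA]
    exact Subgroup.commutator_mono le_rfl (Subgroup.zpowers_le.mpr d.ht)
  -- it suffices to centralise the involutions of the first kind
  suffices h : P ⊓ Subgroup.centralizer {t} ≤ s.K₁ t by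
    intro x hx
    have hxt := mem_cent.mp hx.2
    refine d.mem_R htA (hPR hx.1) (h hx) ?_
    exact s.mem_K₂_of_R hproper (q.mem_T₁ d.hv htA) d.ha (hPR hx.1) hxt
  have hgen : ∀ x ∈ q.V₂, x ≠ 1 → ⁅P ⊓ Subgroup.centralizer {x}, q.V₂⁆ ⊓ Subgroup.centralizer {t} ≤ s.K₁ t := by
    intro x hx hx1
    by_cases hxt : x = t
    · subst hxt
      refine inf_le_left.trans ?_
      rw [Subgroup.commutator_le]
      intro y hy u hu
      refine (comm_zpowers_le (Y := P ⊓ Subgroup.centralizer {x}) (q.h₂.sq u hu)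
        (mem_normalizer_inf (hV₂P hu) (mem_normalizer_cent (q.comm_A (q.V₂_le hu) htA)))
        fun e he hinv => s.mem_K₁_of_inv hproper (q.mem_T₂ hu htA) (mem_cent.mp he.2)
          (odd_orderOf_of_mem (odd_oddOf _) (hPR he.1)) hinv)
        (Subgroup.commutator_mem_commutator hy (Subgroup.mem_zpowers u))
    · have hle : ⁅P ⊓ Subgroup.centralizer {x}, q.V₂⁆ ≤ R x := by
        rw [Subgroup.commutator_le]
        intro y hy u hu
        have hyx : Commute y x := mem_cent.mp hy.2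
        have main : ⁅y, t⁆ ∈ R x := comm_zpowers_le (Y := P ⊓ Subgroup.centralizer {x}) (q.h₂.sq t d.ht)
          (mem_normalizer_inf (hV₂P d.ht) (mem_normalizer_cent (q.comm_A htA (q.V₂_le hx))))
          (fun e he hinv => d.inverted (q.V₂_le hx) hx1 (hPR he.1) (mem_cent.mp he.2) hinv)
          (Subgroup.commutator_mem_commutator hy (Subgroup.mem_zpowers t))
        rcases q.h₂.cases d.ht d.ht1 hx hx1 hxt hu with rfl | rfl | rfl | rfl
        · simp [(R x).one_mem]
        · exact main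
        · rw [commutatorElement_def, hyx.eq, mul_inv_cancel_right, mul_inv_cancel]
          exact (R u).one_mem
        · have e : ⁅y, t * x⁆ = ⁅y, t⁆ := by
            rw [commutatorElement_def, commutatorElement_def]
            calc y * (t * x) * y⁻¹ * (t * x)⁻¹ = y * t * (x * y⁻¹) * x⁻¹ * t⁻¹ := by group
              _ = y * t * (y⁻¹ * x) * x⁻¹ * t⁻¹ := by rw [(hyx.inv_left).eq]
              _ = _ := by group
          rw [e]; exact main
      intro e he
      exact s.mem_K₁_of_R hproper (q.mem_T₂ hx htA) (Or.inl rfl) (hle he.1) (mem_cent.mp he.2)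
  have hC : (Subgroup.centralizer {t} : Subgroup G) ⊓ P = P ⊓ Subgroup.centralizer {t} := inf_comm _ _
  intro y hy
  set C : Subgroup G := P ⊓ Subgroup.centralizer {t} with hCdef
  have hV₂C : q.V₂ ≤ Subgroup.normalizer (C : Set G) := fun u hu =>
    mem_normalizer_inf (hV₂P hu) (mem_normalizer_cent (q.comm_A (q.V₂_le hu) htA))
  have hsol : Group.IsSolvable C := q.solvable_of_le_R (inf_le_left.trans hPR)
  obtain ⟨y₁, hy₁, c, hc, rfl⟩ := coprime_decomp hV₂C
    (hcop.coprime_dvd_right (Subgroup.card_dvd_of_le inf_le_left)) (Or.inr hsol) hy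
  refine mul_mem (hgen t d.ht d.ht1 ⟨hy₁, ?_⟩) ?_
  · exact (commutator_le_of_le_normalizer hV₂C hy₁).2
  · have hfix := CfsgLib.AfterFT.fixed_le_fixGen _ P rfl (q.solvable_of_le_R hPR) hV₂P hcop hPV ⟨hc.1.1, hc.2⟩
    refine (iSup_le ?_ : fixGen q.V₂ P ≤ s.K₁ t) hfix
    rintro ⟨A₀, hA₀, g, hg, hle⟩
    obtain ⟨x, hx, hx1⟩ : ∃ x ∈ A₀, x ≠ (1 : G) := by
      by_contra hcon
      push Not at hcon
      have hbot : A₀ = ⊥ := (Subgroup.eq_bot_iff_forall _).mpr hcon
      rw [hbot, bot_sup_eq] at hle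
      have h4 := Subgroup.card_le_of_le hle
      rw [q.h₂.card, Nat.card_zpowers] at h4
      have := orderOf_le_of_pow_eq_one (x := g) two_pos (by rw [pow_two]; exact q.h₂.sq g hg)
      omega
    intro e he
    refine hgen x (hA₀ hx) hx1 ⟨?_, ?_⟩
    · refine Subgroup.commutator_mono (inf_le_inf_left _ ?_) le_rfl he.2
      exact Subgroup.centralizer_le (by simpa using hx)
    · exact Subgroup.centralizer_le (by simpa using d.ht) he.1

end Quad

end CfsgLib.AfterFT.PairClosed
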